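import Groth.Agent.AmpleX.Comp
import Groth.Agent.AmpleX.ExtendQS
import Groth.Prelude.Def_MoreMor

/-!
# Ample families of invertible modules
-/

universe u

open CategoryTheory CategoryTheory.Limits AlgebraicGeometry Opposite TopologicalSpace

set_option backward.isDefEq.respectTransparency.types false

namespace Groth.Agent.FlatMor3

open Groth.Agent Groth.Agent.H23.PicMul

variable {X Y : Scheme.{u}}

/-- The affine open attached to a point by an ample family. -/
theorem exists_affine_genLocus (hY : MoreMor.HasAmpleFamily Y) (y : Y) :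
    ∃ (P : Y.Modules) (s : Coh.structureModule Y ⟶ P), PicF.IsInvertible P ∧
      y ∈ CohB1.genLocus P s ∧ IsAffineOpen (CohB1.genLocus P s) := by
  obtain ⟨L, n, s, hL, -, hys, hs⟩ := hY.2 y
  exact ⟨_, s, InvX.isInvertible_tensorPow hL n, hys, hs⟩

/-- Ample family from sections with affine loci. -/
theorem hasAmpleFamily_of_sections [CompactSpace X]
    (h : ∀ x : X, ∃ (M : X.Modules) (a : Γ(M, ⊤)), PicF.IsInvertible M ∧
      x ∈ AmpleX.locus a ∧ IsAffineOpen (AmpleX.locus a)) : MoreMor.HasAmpleFamily X := by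
  refine ⟨inferInstance, fun x => ?_⟩
  obtain ⟨M, a, hM, hxa, ha⟩ := h x
  obtain ⟨b, hb⟩ := AmpleX.exists_locus_cl (N := CohB1.tensorPow M 1)
    (show PicF.cl M = _ by rw [cl_tensorPow, pow_one]) a
  refine ⟨M, 1, InvX.ofSect b, hM, le_rfl, ?_⟩
  rw [AmpleX.genLocus_eq_locus, InvX.one_ofSect, hb]
  exact ⟨hxa, ha⟩

/-- A scheme with an ample family is quasi-separated. -/
theorem quasiSeparatedSpace_of_hasAmpleFamily (hY : MoreMor.HasAmpleFamily Y) : QuasiSeparatedSpace Y := by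
  haveI := hY.1
  rw [quasiSeparatedSpace_iff_forall_affineOpens]
  intro U V
  choose P s hP hy hs using exists_affine_genLocus hY
  obtain ⟨S, hS⟩ := isCompact_univ.elim_finite_subcover (fun y : Y => (CohB1.genLocus (P y) (s y) : Set Y))
    (fun y => (CohB1.genLocus (P y) (s y)).2) (fun y _ => Set.mem_iUnion.2 ⟨y, hy y⟩)
  have h : ((U : Set Y) ∩ V) = ⋃ y ∈ S,
      (((U.1 ⊓ CohB1.genLocus (P y) (s y) : Y.Opens) : Set Y) ∩ ((V.1 ⊓ CohB1.genLocus (P y) (s y) : Y.Opens) : Set Y)) := by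
    ext p
    constructor
    · intro hp
      obtain ⟨y, hyS, hpy⟩ := Set.mem_iUnion₂.1 (hS (Set.mem_univ p))
      exact Set.mem_iUnion₂.2 ⟨y, hyS, ⟨hp.1, hpy⟩, hp.2, hpy⟩
    · intro hp
      obtain ⟨y, -, hpy⟩ := Set.mem_iUnion₂.1 hp
      exact ⟨hpy.1.1, hpy.2.1⟩
  rw [h]
  refine S.isCompact_biUnion fun y _ => ?_
  exact (hs y).isQuasiSeparated _ _ Set.inter_subset_right (U.1 ⊓ CohB1.genLocus (P y) (s y)).2
    (AmpleX.isAffineOpen_inf_genLocus (hP y) U.2 (s y)).isCompact Set.inter_subset_right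
    (V.1 ⊓ CohB1.genLocus (P y) (s y)).2 (AmpleX.isAffineOpen_inf_genLocus (hP y) V.2 (s y)).isCompact

/-- A relatively ample module over a base with an ample family gives an ample family. -/
theorem hasAmpleFamily_of_isRelAmple (f : X ⟶ Y) (hY : MoreMor.HasAmpleFamily Y) {L : X.Modules}
    (hL : RelAmple.IsRelAmple f L) : MoreMor.HasAmpleFamily X := by
  haveI := hY.1
  haveI := hL.1
  haveI := quasiSeparatedSpace_of_hasAmpleFamily hY
  haveI : IsSeparated f := AmpleX.isSeparated_of_ampleOn fun x => AmpleX.ampleOn_of_isRelAmple hL (f x)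
  haveI : QuasiSeparatedSpace X := quasiSeparatedSpace_of_quasiSeparated f
  haveI : CompactSpace X := QuasiCompact.compactSpace_of_compactSpace f
  have hiL := AmpleX.isInvertible_of_isRelAmple hL
  refine hasAmpleFamily_of_sections fun x => ?_
  obtain ⟨K, s, hK, hxs, hs⟩ := exists_affine_genLocus hY (f x)
  obtain ⟨m, hm, a, hxa, -, ha⟩ := AmpleX.exists_sections_of_isRelAmple hL hs (x := x) hxs (U := ⊤) trivial
  let P := (Scheme.Modules.pullback f).obj K
  have hP : PicF.IsInvertible P := PicClLib.isInvertible_pullback f hK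
  let p : Γ(P, ⊤) := InvX.pullElt f (InvX.one s)
  have hG : CohB1.genLocus P (InvX.ofSect p) = f ⁻¹ᵁ CohB1.genLocus K s := by
    rw [AmpleX.genLocus_eq_locus, InvX.one_ofSect, AmpleX.genLocus_eq_locus]
    exact AmpleX.locus_pullElt hK f (InvX.one s)
  have hQ := InvX.isInvertible_tensorPow hiL m
  obtain ⟨n₀, hn₀⟩ := AmpleX.exists_extend' (ProjUPX.isQCoh_of_isInvertible hQ) hP (InvX.ofSect p)
    (AModX.res _ hG.le a)
  obtain ⟨T, hT⟩ := hn₀ n₀ le_rfl
  have hPn := InvX.isInvertible_tensorPow hP n₀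
  refine ⟨CohB1.tensorMod (CohB1.tensorMod (CohB1.tensorPow L m) (CohB1.tensorPow P n₀)) P, InvX.tmul T p,
    InvX.isInvertible_tensorMod (InvX.isInvertible_tensorMod hQ hPn) hP, ?_⟩
  have hloc : AmpleX.locus (InvX.tmul T p) = AmpleX.locus a := by
    rw [AmpleX.locus_tmul (InvX.isInvertible_tensorMod hQ hPn) hP]
    have hp : AmpleX.locus p = CohB1.genLocus P (InvX.ofSect p) := by
      rw [AmpleX.genLocus_eq_locus, InvX.one_ofSect]
    have h1 := congrArg AmpleX.locus hT
    rw [AmpleX.locus_res, AmpleX.locus_tmul hQ hPn, AmpleX.locus_res] at h1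
    rw [hp, h1, hG, inf_eq_left.2 (AmpleX.locus_le a)]
    refine inf_eq_left.2 ((AmpleX.locus_le a).trans ?_)
    refine (hG.ge).trans ?_
    refine AmpleX.le_locus _ hG.le ?_
    refine (AmpleX.isFrame_powElt ?_ n₀).res hG.le
    refine AmpleX.isFrame_res_of_le (InvX.one (InvX.ofSect p)) ?_
    exact hG.ge.trans (AmpleX.genLocus_eq_locus _).le
  rw [hloc]
  exact ⟨hxa, ha⟩

theorem isQuasiAffine_of_isAffineHom (f : X ⟶ Y) [IsAffineHom f] : Mor2.IsQuasiAffine f :=
  ⟨inferInstance, fun V hV => haveI : IsAffine (f ⁻¹ᵁ V : Scheme.{u}) := hV.preimage f; inferInstance⟩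

end Groth.Agent.FlatMor3
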