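import Groth.Agent.AmpleX.Sect
import Groth.Agent.AmpleX.ExtendQS
import Groth.Agent.AmpleX.RelAffine
import Groth.Agent.H23.PicInv
import Groth.Agent.FlatMor3.AmpleFamily
import Groth.Agent.S8914

/-!
# Ample families from effective Cartier divisors
-/

universe u

open CategoryTheory CategoryTheory.Limits AlgebraicGeometry Opposite TopologicalSpace

set_option backward.isDefEq.respectTransparency false
set_option backward.isDefEq.respectTransparency.types false

namespace Groth.Agent.FlatMor3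

open Groth.Agent Groth.Agent.H23.PicMul

variable {X : Scheme.{u}}

/-- The invertible module of an effective Cartier divisor, with its section. -/
theorem exists_canonical_section {D : X.IdealSheafData} (hD : BlowUp.IsEffCartierIdeal D) :
    ∃ (P : X.Modules) (s : Γ(P, ⊤)), PicF.IsInvertible P ∧ AmpleX.locus s = D.support.compl := by
  have hI := (Groth.Agent.S8914.result D).2 hD
  obtain ⟨J, hJ, ⟨φ⟩⟩ := H23.PicInv.exists_inverse hI
  let I := ClSub.idealMod D
  have hex : ∀ x : X, ∃ (W : X.Opens) (_ : IsAffineOpen W) (_ : x ∈ W) (ε : Γ(I, W)) (η : Γ(J, W)),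
      InvX.IsFrame ε ∧ InvX.IsFrame η := fun x => by
    obtain ⟨W₀, hx, ε, η, hε, hη⟩ := InvX.exists_frame₂ hI hJ x
    obtain ⟨V, hV, hxV, hVW⟩ := exists_isAffineOpen_mem_and_subset hx
    exact ⟨V, hV, hxV, _, _, hε.res hVW, hη.res hVW⟩
  choose W hW hxW ε η hε hη using hex
  let β : ∀ {V : X.Opens}, Γ(I, V) → Γ(J, V) → Γ(X, V) := fun {V} a b =>
    (show Γ(X, V) from φ.hom.app V (InvX.tmul a b))
  have β_res : ∀ {V V' : X.Opens} (h : V' ≤ V) (a : Γ(I, V)) (b : Γ(J, V)),
      β (AModX.res I h a) (AModX.res J h b) = AModX.resR h (β a b) := fun h a b => by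
    show φ.hom.app _ (InvX.tmul _ _) = _
    rw [← InvX.res_tmul, AModX.app_res]
    rfl
  have β_left : ∀ {V : X.Opens} (c : Γ(X, V)) (a : Γ(I, V)) (b : Γ(J, V)), β (c • a) b = c * β a b :=
    fun c a b => by
    show φ.hom.app _ (InvX.tmul _ _) = _
    rw [InvX.tmul_smul_left, Scheme.Modules.Hom.app_smul]
    rfl
  have β_right : ∀ {V : X.Opens} (c : Γ(X, V)) (a : Γ(I, V)) (b : Γ(J, V)), β a (c • b) = c * β a b :=
    fun c a b => by
    show φ.hom.app _ (InvX.tmul _ _) = _
    rw [InvX.tmul_smul_right, Scheme.Modules.Hom.app_smul]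
    rfl
  have hunit : ∀ x, IsUnit (β (ε x) (η x)) := fun x => by
    have h1 : InvX.IsFrame (φ.hom.app (W x) (InvX.tmul (ε x) (η x))) :=
      (InvX.isFrame_tmul (hε x) (hη x)).map_iso φ
    obtain ⟨c, hc⟩ := (h1 (W x) le_rfl).2 (show Γ(Coh.structureModule X, W x) from (1 : Γ(X, W x)))
    simp only [AModX.res_self] at hc
    exact IsUnit.of_mul_eq_one_right c hc
  choose v hv using fun x => (hunit x).exists_left_inv
  let f : ∀ x, Γ(X, W x) := fun x => OmegaSh.idealSect D (W x) (ε x)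
  let t : ∀ x, Γ(J, W x) := fun x => (f x * v x) • η x
  have ht : ∀ x, β (ε x) (t x) = f x := fun x => by
    rw [β_right, mul_assoc, hv x, mul_one]
  have huniq : ∀ (x : X) (V : X.Opens) (h : V ≤ W x) (b b' : Γ(J, V)),
      β (AModX.res I h (ε x)) b = β (AModX.res I h (ε x)) b' → b = b' := fun x V h b b' hb => by
    obtain ⟨c, rfl⟩ := (hη x).exists_coord h b
    obtain ⟨c', rfl⟩ := (hη x).exists_coord h b'
    rw [β_right, β_right, β_res] at hb
    rw [((hunit x).map (AModX.resR h)).mul_left_inj.1 hb]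
  obtain ⟨s, hs, -⟩ := AModX.existsUnique_glue (M := J) (V := (⊤ : X.Opens)) W (fun _ => le_top)
    (fun x _ => ⟨x, hxW x⟩) t (fun x y => by
      refine huniq x _ inf_le_left _ _ ?_
      obtain ⟨c, hc⟩ := (hε y).exists_coord (inf_le_right : W x ⊓ W y ≤ W y) (AModX.res I inf_le_left (ε x))
      conv_rhs => rw [hc, β_left, β_res, ht]
      rw [β_res, ht]
      show AModX.resR inf_le_left (f x) = _
      have h1 : OmegaSh.idealSect D _ (AModX.res I (inf_le_left : W x ⊓ W y ≤ W x) (ε x)) =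
          AModX.resR inf_le_left (f x) := OmegaLib.idealSect_map D _ _
      have h2 : OmegaSh.idealSect D _ (AModX.res I (inf_le_right : W x ⊓ W y ≤ W y) (ε y)) =
          AModX.resR inf_le_right (f y) := OmegaLib.idealSect_map D _ _
      rw [← h1, hc, OmegaLib.idealSect_smul, h2])
  refine ⟨J, s, hJ, ?_⟩
  have hloc : ∀ x, AmpleX.locus s ⊓ W x = X.basicOpen (f x) := fun x => by
    have h1 := AmpleX.locus_inf s le_top (hη x) (hs x)
    rwa [Scheme.basicOpen_mul, X.basicOpen_of_isUnit (IsUnit.of_mul_eq_one _ (hv x)),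
      inf_eq_left.2 (X.basicOpen_le _)] at h1
  have hideal : ∀ x, D.ideal ⟨W x, hW x⟩ = Ideal.span {f x} := fun x => by
    refine le_antisymm (fun g hg => ?_) ((Ideal.span_singleton_le_iff_mem _).2 (OmegaLib.idealSect_mem D ⟨W x, hW x⟩ (ε x)))
    obtain ⟨k, hk⟩ := OmegaLib.exists_of_mem D ⟨W x, hW x⟩ g hg
    obtain ⟨r, hr⟩ := (hε x).exists_coord le_rfl k
    rw [AModX.res_self] at hr
    rw [← hk, hr, OmegaLib.idealSect_smul]
    exact Ideal.mul_mem_left _ r (Ideal.mem_span_singleton_self _)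
  refine Opens.ext (Set.ext fun p => ?_)
  show p ∈ AmpleX.locus s ↔ p ∈ (D.support : Set X)ᶜ
  have h1 : p ∈ AmpleX.locus s ↔ p ∈ X.basicOpen (f p) := by
    rw [← hloc p]
    exact ⟨fun h => ⟨h, hxW p⟩, fun h => h.1⟩
  have h2 : p ∈ (D.support : Set X) ↔ p ∈ X.zeroLocus (U := W p) (D.ideal ⟨W p, hW p⟩ : Set Γ(X, W p)) := by
    have := Set.ext_iff.1 (D.coe_support_inter ⟨W p, hW p⟩) p
    simpa [hxW p] using this
  rw [h1, Set.mem_compl_iff, h2, hideal, Scheme.zeroLocus_span, Scheme.mem_zeroLocus_iff]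
  simp

/-- Ample pieces cut out by effective Cartier divisors give an ample family. -/
theorem hasAmpleFamily_of_cartier {m : ℕ} (D : Fin m → X.IdealSheafData)
    (hD : ∀ i, BlowUp.IsEffCartierIdeal (D i)) (hcap : ⋂ i, ((D i).support : Set X) = ∅)
    (L : Fin m → X.Modules) (hL : ∀ i, PicF.IsInvertible (L i))
    (hamp : ∀ i, CohB1.IsAmple ((L i).restrict (Scheme.Opens.ι (D i).support.compl))) :
    MoreMor.HasAmpleFamily X := by
  let U : Fin m → X.Opens := fun i => (D i).support.compl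
  choose P s hP hs using fun i => exists_canonical_section (hD i)
  have hc : ∀ i, CompactSpace (U i).toScheme := fun i => (hamp i).2.1
  have hsep : ∀ i, (U i).toScheme.IsSeparated := fun i => AmpleX.isSeparated_of_isAmple (hamp i)
  have hcov : ∀ x : X, ∃ i, x ∈ U i := fun x => by
    by_contra h
    simp only [not_exists] at h
    exact Set.eq_empty_iff_forall_notMem.1 hcap x (Set.mem_iInter.2 fun i => not_not.1 (h i))
  haveI : CompactSpace X := ⟨by
    rw [show (Set.univ : Set X) = ⋃ i, (U i : Set X) from (Set.eq_univ_of_forall fun x => Set.mem_iUnion.2 (hcov x)).symm]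
    exact isCompact_iUnion fun i => isCompact_iff_compactSpace.2 (hc i)⟩
  haveI : QuasiSeparatedSpace X := by
    rw [quasiSeparatedSpace_iff_forall_affineOpens]
    intro A B
    have h : ((A : Set X) ∩ B) = ⋃ i, (((A.1 ⊓ U i : X.Opens) : Set X) ∩ ((B.1 ⊓ U i : X.Opens) : Set X)) := by
      ext p
      constructor
      · intro hp
        obtain ⟨i, hi⟩ := hcov p
        exact Set.mem_iUnion.2 ⟨i, ⟨hp.1, hi⟩, hp.2, hi⟩
      · intro hp
        obtain ⟨i, hi⟩ := Set.mem_iUnion.1 hp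
        exact ⟨hi.1.1, hi.2.1⟩
    rw [h]
    refine isCompact_iUnion fun i => ?_
    have hAi : IsAffineOpen (A.1 ⊓ U i) := by
      show IsAffineOpen (A.1 ⊓ (D i).support.compl)
      rw [← hs i]; exact AmpleX.isAffineOpen_inf_locus (hP i) A.2 (s i) le_top
    have hBi : IsAffineOpen (B.1 ⊓ U i) := by
      show IsAffineOpen (B.1 ⊓ (D i).support.compl)
      rw [← hs i]; exact AmpleX.isAffineOpen_inf_locus (hP i) B.2 (s i) le_top
    haveI := hsep i
    exact ((isQuasiSeparated_iff_quasiSeparatedSpace _ (U i).2).2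
      (inferInstanceAs (QuasiSeparatedSpace (U i).toScheme))) _ _ Set.inter_subset_right (A.1 ⊓ U i).2
      hAi.isCompact Set.inter_subset_right (B.1 ⊓ U i).2 hBi.isCompact
  refine hasAmpleFamily_of_sections fun x => ?_
  obtain ⟨i, hxi⟩ := hcov x
  obtain ⟨n, hn, a, hxa, -, ha⟩ := AmpleX.exists_locus_le (U i).ι (hamp i) (x := x)
    (by rw [Scheme.Opens.ι_image_top]; exact hxi) (U := ⊤) trivial
  let p : Γ(P i, ⊤) := s i
  have hG : CohB1.genLocus (P i) (InvX.ofSect p) = (U i).ι ''ᵁ ⊤ := by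
    rw [AmpleX.genLocus_eq_locus, InvX.one_ofSect, Scheme.Opens.ι_image_top]
    exact hs i
  have hQ := InvX.isInvertible_tensorPow (hL i) n
  obtain ⟨n₀, hn₀⟩ := AmpleX.exists_extend' (ProjUPX.isQCoh_of_isInvertible hQ) (hP i) (InvX.ofSect p)
    (AModX.res _ hG.le a)
  obtain ⟨T, hT⟩ := hn₀ n₀ le_rfl
  have hPn := InvX.isInvertible_tensorPow (hP i) n₀
  refine ⟨CohB1.tensorMod (CohB1.tensorMod (CohB1.tensorPow (L i) n) (CohB1.tensorPow (P i) n₀)) (P i),
    InvX.tmul T p, InvX.isInvertible_tensorMod (InvX.isInvertible_tensorMod hQ hPn) (hP i), ?_⟩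
  have hloc : AmpleX.locus (InvX.tmul T p) = AmpleX.locus a := by
    rw [AmpleX.locus_tmul (InvX.isInvertible_tensorMod hQ hPn) (hP i)]
    have hp : AmpleX.locus p = CohB1.genLocus (P i) (InvX.ofSect p) := by
      rw [AmpleX.genLocus_eq_locus, InvX.one_ofSect]
    have h1 := congrArg AmpleX.locus hT
    rw [AmpleX.locus_res, AmpleX.locus_tmul hQ hPn, AmpleX.locus_res] at h1
    rw [hp, h1, hG, inf_eq_left.2 (AmpleX.locus_le a)]
    refine inf_eq_left.2 ((AmpleX.locus_le a).trans (hG.ge.trans ?_))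
    refine AmpleX.le_locus _ hG.le ?_
    refine (AmpleX.isFrame_powElt ?_ n₀).res hG.le
    exact AmpleX.isFrame_res_of_le (InvX.one (InvX.ofSect p)) (hG.ge.trans (AmpleX.genLocus_eq_locus _).le)
  rw [hloc]
  exact ⟨hxa, ha⟩

end Groth.Agent.FlatMor3
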