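import Groth.Agent.AmpleX.Sect
import Groth.Agent.AmpleX.Extend
import Groth.Agent.AmpleX.RelAffine
import Groth.Agent.H23.InfLift
import Groth.Agent.MorLib.Thick.Affine
import Groth.Prelude.Def_MoreMor

/-!
# Ampleness along thickenings
-/

universe u

open CategoryTheory CategoryTheory.Limits AlgebraicGeometry Opposite TopologicalSpace

set_option backward.isDefEq.respectTransparency.types false

namespace Groth.Agent.FlatMor3

open Groth.Agent Groth.Agent.H23.PicMul

variable {X Y : Scheme.{u}}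

/-- A power of a function congruent to `g` modulo nilpotents extends from `D(g)`. -/
theorem exists_extend_pow {U : X.Opens} (hU : IsAffineOpen U) (g : Γ(X, U)) (h : Γ(X, X.basicOpen g))
    (hn : IsNilpotent (h - AModX.resR (X.basicOpen_le g) g)) :
    ∃ m₀ : ℕ, ∀ m, m₀ ≤ m → ∃ r : Γ(X, U),
      AModX.resR (X.basicOpen_le g) r = h ^ m ∧ X.basicOpen r = X.basicOpen g := by
  let D := X.basicOpen g
  let ρ := AModX.resR (X := X) (X.basicOpen_le g)
  let e := h - ρ g
  obtain ⟨N, hN⟩ := hn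
  haveI := hU.isLocalization_basicOpen g
  letI : Algebra Γ(X, U) Γ(X, D) := (X.presheaf.map (homOfLE (X.basicOpen_le g)).op).hom.toAlgebra
  obtain ⟨⟨c, ⟨_, n, rfl⟩⟩, hc⟩ := IsLocalization.surj (Submonoid.powers g) e
  have hc' : ρ c = e * ρ g ^ n := by
    rw [← map_pow]; exact hc.symm
  have hu : IsUnit (ρ g) := AModX.isUnit_resR _ g le_rfl
  refine ⟨N * (n + 1) + 1, fun m hm => ?_⟩
  let r := ∑ j ∈ Finset.range N, (m.choose j : Γ(X, U)) * c ^ j * g ^ (m - j * (n + 1))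
  have hh : h = e + ρ g := by simp [e]
  have hr : ρ r = h ^ m := by
    rw [hh, add_pow, map_sum]
    rw [← Finset.sum_subset (Finset.range_mono (show N ≤ m + 1 by nlinarith)) fun j _ hj => by
      rw [Finset.mem_range, not_lt] at hj
      rw [pow_eq_zero_of_le hj hN, zero_mul, zero_mul]]
    refine Finset.sum_congr rfl fun j hj => ?_
    rw [Finset.mem_range] at hj
    have hjm : j * (n + 1) ≤ m := le_trans (Nat.mul_le_mul_right _ hj.le) (by omega)
    rw [map_mul, map_mul, map_natCast, map_pow, map_pow, hc', mul_pow, ← pow_mul,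
      show m - j = (n * j) + (m - j * (n + 1)) by rw [Nat.mul_add, Nat.mul_one, Nat.mul_comm n j] at *; omega, pow_add]
    ring
  refine ⟨r, hr, le_antisymm ?_ ?_⟩
  · have : g ∣ r := Finset.dvd_sum fun j hj => Dvd.dvd.mul_left (dvd_pow_self g (by
      rw [Finset.mem_range] at hj
      have := Nat.mul_le_mul_right (n + 1) hj.le
      omega)) _
    obtain ⟨d, hd⟩ := this
    rw [hd, Scheme.basicOpen_mul]
    exact inf_le_left
  · have hh2 : IsUnit h := by
      rw [hh, add_comm]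
      exact IsNilpotent.isUnit_add_left_of_commute ⟨N, hN⟩ hu (Commute.all _ _)
    have h2 : D ≤ X.basicOpen (h ^ m) := (X.basicOpen_of_isUnit (hh2.pow m)).ge
    refine h2.trans ?_
    rw [← hr]
    exact (X.basicOpen_res _ _).le.trans inf_le_right

/-- Equal sections on the common locus agree after taking a power. -/
theorem exists_pow_eq {W : X.Opens} (hW : IsCompact (W : Set X)) (a b : Γ(X, W))
    (hD : X.basicOpen a = X.basicOpen b)
    (h : AModX.resR (X.basicOpen_le a) a = AModX.resR (X.basicOpen_le a) b) :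
    ∃ p₀ : ℕ, ∀ p, p₀ ≤ p → a ^ (p + 1) = b ^ (p + 1) := by
  have h1 : (a - b) |_ X.basicOpen a = 0 := by
    show AModX.resR (X.basicOpen_le a) (a - b) = 0
    rw [map_sub, h, sub_self]
  have h2 : (a - b) |_ X.basicOpen b = 0 := by
    show AModX.resR (X.basicOpen_le b) (a - b) = 0
    rw [← AModX.resR_resR (X.basicOpen_le a) hD.ge]
    show AModX.resR hD.ge (AModX.resR (X.basicOpen_le a) (a - b)) = 0
    rw [show AModX.resR (X.basicOpen_le a) (a - b) = 0 from h1, map_zero]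
  obtain ⟨k, hk⟩ := exists_pow_mul_eq_zero_of_res_basicOpen_eq_zero_of_isCompact X hW _ a h1
  obtain ⟨l, hl⟩ := exists_pow_mul_eq_zero_of_res_basicOpen_eq_zero_of_isCompact X hW _ b h2
  refine ⟨k + l, fun p hp => sub_eq_zero.1 ?_⟩
  rw [← geom_sum₂_mul, Finset.sum_mul]
  refine Finset.sum_eq_zero fun i hi => ?_
  rw [Finset.mem_range] at hi
  rcases le_or_gt k i with hki | hki
  · obtain ⟨j, rfl⟩ := Nat.exists_eq_add_of_le hki
    rw [pow_add, show a ^ k * a ^ j * b ^ (p + 1 - 1 - (k + j)) * (a - b) =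
      a ^ j * b ^ (p + 1 - 1 - (k + j)) * (a ^ k * (a - b)) by ring, hk, mul_zero]
  · obtain ⟨j, hj⟩ := Nat.exists_eq_add_of_le (show l ≤ p + 1 - 1 - i by omega)
    rw [hj, pow_add, show a ^ i * (b ^ l * b ^ j) * (a - b) = a ^ i * b ^ j * (b ^ l * (a - b)) by ring, hl,
      mul_zero]

/-- Local sections with common locus, agreeing on it, glue after taking a power. -/
theorem exists_glue_pow [QuasiSeparatedSpace X] {M : X.Modules} (hM : PicF.IsInvertible M) (V : X.Opens)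
    {ι : Type u} [Finite ι] (U : ι → X.Opens) (hU : ∀ i, IsAffineOpen (U i)) (hcov : ∀ x, ∃ i, x ∈ U i)
    (ε : ∀ i, Γ(M, U i)) (hε : ∀ i, InvX.IsFrame (ε i)) (S : ∀ i, Γ(M, U i))
    (hloc : ∀ i, AmpleX.locus (S i) = V ⊓ U i)
    (hagree : ∀ i j (W : X.Opens) (hi : W ≤ U i) (hj : W ≤ U j), W ≤ V →
      AModX.res M hi (S i) = AModX.res M hj (S j)) :
    ∃ (p : ℕ) (T : Γ(CohB1.tensorPow M (p + 1), ⊤)), AmpleX.locus T = V := by
  classical
  haveI := Fintype.ofFinite ι
  have hpair : ∀ i j : ι, ∃ p₀ : ℕ, ∀ p, p₀ ≤ p →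
      AModX.res _ (inf_le_left : U i ⊓ U j ≤ U i) (AmpleX.powElt (S i) (p + 1)) =
        AModX.res _ (inf_le_right : U i ⊓ U j ≤ U j) (AmpleX.powElt (S j) (p + 1)) := by
    intro i j
    let W := U i ⊓ U j
    have hW : IsCompact (W : Set X) :=
      QuasiSeparatedSpace.inter_isCompact (U i : Set X) (U j) (U i).2 (hU i).isCompact (U j).2 (hU j).isCompact
    have he := (hε i).res (inf_le_left : W ≤ U i)
    obtain ⟨a, ha⟩ := he.exists_coord le_rfl (AModX.res M (inf_le_left : W ≤ U i) (S i))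
    obtain ⟨b, hb⟩ := he.exists_coord le_rfl (AModX.res M (inf_le_right : W ≤ U j) (S j))
    rw [AModX.res_self] at ha hb
    have hDa : X.basicOpen a = V ⊓ W := by
      rw [← AmpleX.locus_inf (S i) inf_le_left he ha, hloc, inf_assoc, inf_eq_right.2 (inf_le_left : W ≤ U i)]
    have hDb : X.basicOpen b = V ⊓ W := by
      rw [← AmpleX.locus_inf (S j) inf_le_right he hb, hloc, inf_assoc, inf_eq_right.2 (inf_le_right : W ≤ U j)]
    have hab : AModX.resR (X.basicOpen_le a) a = AModX.resR (X.basicOpen_le a) b := by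
      refine (he.res (X.basicOpen_le a)).coord_unique le_rfl ?_
      rw [AModX.res_self, ← AModX.res_smul, ← ha, ← AModX.res_smul, ← hb, AModX.res_res, AModX.res_res]
      exact hagree i j _ _ _ (hDa.le.trans inf_le_left)
    obtain ⟨p₀, hp₀⟩ := exists_pow_eq hW a b (hDa.trans hDb.symm) hab
    refine ⟨p₀, fun p hp => ?_⟩
    rw [AmpleX.res_powElt, AmpleX.res_powElt, ha, hb, AmpleX.powElt_smul, AmpleX.powElt_smul, hp₀ p hp]
  choose p₀ hp₀ using hpair
  let p := Finset.univ.sup fun q : ι × ι => p₀ q.1 q.2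
  obtain ⟨T, hT, -⟩ := AModX.existsUnique_glue (M := CohB1.tensorPow M (p + 1)) (V := (⊤ : X.Opens)) U
    (fun _ => le_top) (fun x _ => hcov x) (fun i => AmpleX.powElt (S i) (p + 1))
    (fun i j => hp₀ i j p (Finset.le_sup (f := fun q : ι × ι => p₀ q.1 q.2) (Finset.mem_univ (i, j))))
  refine ⟨p, T, ?_⟩
  have hi : ∀ i, AmpleX.locus T ⊓ U i = V ⊓ U i := fun i => by
    have h1 := congrArg AmpleX.locus (hT i)
    rwa [AmpleX.locus_res, AmpleX.locus_powElt hM, hloc] at h1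
  refine le_antisymm (fun x hx => ?_) (fun x hx => ?_) <;> obtain ⟨i, hxi⟩ := hcov x
  · exact ((hi i).le ⟨hx, hxi⟩).1
  · exact ((hi i).ge ⟨hx, hxi⟩).1

section Thick

variable (i : X ⟶ Y) [IsClosedImmersion i] (hi : Function.Surjective i)

include hi in
theorem opens_le_of_preimage_le {A B : Y.Opens} (h : i ⁻¹ᵁ A ≤ i ⁻¹ᵁ B) : A ≤ B := fun y hy => by
  obtain ⟨x, rfl⟩ := hi y
  exact h hy

include hi in
theorem opens_eq_of_preimage_eq {A B : Y.Opens} (h : i ⁻¹ᵁ A = i ⁻¹ᵁ B) : A = B :=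
  le_antisymm (opens_le_of_preimage_le i hi h.le) (opens_le_of_preimage_le i hi h.ge)

include hi in
/-- Functions killed by the thickening are nilpotent over affines. -/
theorem isNilpotent_of_app_eq_zero {W : Y.Opens} (hW : IsAffineOpen W) (a : Γ(Y, W)) (h : i.app W a = 0) :
    IsNilpotent a := by
  have hb : Y.basicOpen a = ⊥ := opens_eq_of_preimage_eq i hi (by
    rw [Scheme.preimage_basicOpen, h, Scheme.basicOpen_zero]; rfl)
  exact (Scheme.isNilpotent_iff_basicOpen_eq_bot_of_isCompact hW.isCompact a).2 hb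

include hi in
theorem isAffineOpen_of_preimage {V : Y.Opens} (h : IsAffineOpen (i ⁻¹ᵁ V)) : IsAffineOpen V := by
  haveI : IsAffine (i ⁻¹ᵁ V : Scheme.{u}) := h
  haveI : IsClosedImmersion (i ∣_ V) := IsZariskiLocalAtTarget.restrict (P := @IsClosedImmersion) inferInstance V
  exact MorLib.Thick.isAffine_of_thickening (i ∣_ V) fun y => by
    obtain ⟨x, hx⟩ := hi y.1
    exact ⟨⟨x, show i x ∈ V from hx ▸ y.2⟩, Subtype.ext (by simpa using hx)⟩

include hi in
/-- An invertible module is ample as soon as its pullback to a thickening is. -/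
theorem isAmple_of_isAmple_pullback {L : Y.Modules} (hL : PicF.IsInvertible L)
    (h : CohB1.IsAmple ((Scheme.Modules.pullback i).obj L)) : CohB1.IsAmple L := by
  classical
  obtain ⟨hiL, hc, hx⟩ := AmpleX.isAmple_iff.1 h
  haveI := hc
  haveI : X.IsSeparated := AmpleX.isSeparated_of_isAmple h
  haveI := MorLib.Thick.compact_of_surjective i hi
  haveI : QuasiSeparatedSpace Y := MorLib.Thick.qs_of_surjective i hi
  refine AmpleX.isAmple_iff.2 ⟨hL, inferInstance, fun y => ?_⟩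
  obtain ⟨x, rfl⟩ := hi y
  obtain ⟨n, hn, s₀, hxs, hs⟩ := hx x
  let M := CohB1.tensorPow L n
  have hM : PicF.IsInvertible M := InvX.isInvertible_tensorPow hL n
  let N := (Scheme.Modules.pullback i).obj M
  have hN : PicF.IsInvertible N := PicClLib.isInvertible_pullback i hM
  obtain ⟨s, hs₀⟩ := AmpleX.exists_locus_cl (N := N)
    (show PicF.cl (CohB1.tensorPow ((Scheme.Modules.pullback i).obj L) n) = PicF.pullCl i (PicF.cl M) by
      rw [cl_tensorPow, cl_tensorPow, pullCl_pow]; rfl) (InvX.one s₀)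
  rw [← AmpleX.genLocus_eq_locus] at hs₀
  rw [← hs₀] at hxs hs
  obtain ⟨V, hV⟩ : ∃ V : Y.Opens, i ⁻¹ᵁ V = AmpleX.locus s := by
    obtain ⟨O, hO, hO'⟩ := i.isEmbedding.isInducing.isOpen_iff.1 (AmpleX.locus s).2
    exact ⟨⟨O, hO⟩, Opens.ext hO'⟩
  have hVa : IsAffineOpen V := isAffineOpen_of_preimage i hi (hV ▸ hs)
  -- lift over `V`
  obtain ⟨tV, htV⟩ := H23.InfLift.exists_lift (ProjUPX.isQCoh_of_isInvertible hM) i hVa
    (AModX.res N (le_top : i ⁻¹ᵁ V ≤ ⊤) s)
  have hfV : InvX.IsFrame tV := H23.InfLift.isFrame_of_pullElt hM i hi tV (htV.symm ▸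
    AmpleX.isFrame_res_of_le s hV.le)
  -- charts
  have hchart : ∀ y : Y, ∃ (U : Y.Opens) (_ : IsAffineOpen U) (_ : y ∈ U) (e : Γ(M, U)), InvX.IsFrame e :=
    fun y => by
      obtain ⟨U₀, hyU, e, he⟩ := InvX.exists_frame hM y
      obtain ⟨_, ⟨W, hW, rfl⟩, hyW, hle⟩ :=
        Y.isBasis_affineOpens.exists_subset_of_mem_open (show y ∈ U₀ from hyU) U₀.2
      exact ⟨W, hW, hyW, _, he.res (show W ≤ U₀ from hle)⟩
  choose U hU hyU ε hε using hchart
  obtain ⟨F, hF⟩ := isCompact_univ.elim_finite_subcover (fun y => (U y : Set Y)) (fun y => (U y).2)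
    (fun y _ => Set.mem_iUnion.2 ⟨y, hyU y⟩)
  choose t ht using fun y => H23.InfLift.exists_lift (ProjUPX.isQCoh_of_isInvertible hM) i (hU y)
    (AModX.res N (le_top : i ⁻¹ᵁ U y ≤ ⊤) s)
  choose g hg using fun y => (hε y).exists_coord le_rfl (t y)
  simp only [AModX.res_self] at hg
  have hDg : ∀ y, Y.basicOpen (g y) = V ⊓ U y := fun y => by
    have hl : AmpleX.locus (t y) = Y.basicOpen (g y) := by
      have := AmpleX.locus_inf (t y) le_rfl (hε y) (by rw [AModX.res_self]; exact hg y)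
      rwa [inf_eq_left.2 (AmpleX.locus_le _)] at this
    rw [← hl]
    refine opens_eq_of_preimage_eq i hi ?_
    rw [← AmpleX.locus_pullElt hM, ht, AmpleX.locus_res, ← hV]
    rfl
  choose h hh using fun y => (hε y).exists_coord (Y.basicOpen_le (g y))
    (AModX.res M ((hDg y).le.trans inf_le_left) tV)
  have hnil : ∀ y, IsNilpotent (h y - AModX.resR (Y.basicOpen_le (g y)) (g y)) := fun y => by
    refine isNilpotent_of_app_eq_zero i hi ((hU y).basicOpen (g y)) _ ?_
    rw [map_sub, sub_eq_zero]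
    let D := Y.basicOpen (g y)
    have hfr := InvX.isFrame_pullElt i ((hε y).res (Y.basicOpen_le (g y)))
    refine hfr.coord_unique le_rfl ?_
    rw [AModX.res_self, ← InvX.pullElt_smul, ← InvX.pullElt_smul, ← hh y, ← AModX.res_smul, ← hg y,
      ← InvX.res_pullElt i, ← InvX.res_pullElt i, htV, ht, AModX.res_res, AModX.res_res]
  choose m₀ hm₀ using fun y => exists_extend_pow (hU y) (g y) (h y) (hnil y)
  let m := F.sup m₀ + 1
  choose r hr hrD using fun y : F => hm₀ y.1 m ((Finset.le_sup y.2).trans (Nat.le_succ _))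
  obtain ⟨p, T, hT⟩ := exists_glue_pow (InvX.isInvertible_tensorPow hM m) V (ι := F) (fun y => U y.1)
    (fun y => hU y.1) (fun z => by
      obtain ⟨y, hyF, hzy⟩ := Set.mem_iUnion₂.1 (hF (Set.mem_univ z))
      exact ⟨⟨y, hyF⟩, hzy⟩)
    (fun y => AmpleX.powElt (ε y.1) m) (fun y => AmpleX.isFrame_powElt (hε y.1) m)
    (fun y => r y • AmpleX.powElt (ε y.1) m)
    (fun y => by
      have hp := AmpleX.isFrame_powElt (hε y.1) m
      have := AmpleX.locus_inf (r y • AmpleX.powElt (ε y.1) m) le_rfl hp (by rw [AModX.res_self])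
      rw [inf_eq_left.2 (AmpleX.locus_le _)] at this
      rw [this, hrD, hDg])
    (fun a b W ha hb hWV => by
      have key : ∀ (c : F) (hc : W ≤ U c.1), AModX.res _ hc (r c • AmpleX.powElt (ε c.1) m) =
          AModX.res _ hWV (AmpleX.powElt tV m) := fun c hc => by
        have hWD : W ≤ Y.basicOpen (g c.1) := (le_inf hWV hc).trans (hDg c.1).ge
        rw [← AModX.res_res (Y.basicOpen_le (g c.1)) hWD, AModX.res_smul, hr c,
          ← AModX.res_res ((hDg c.1).le.trans inf_le_left) hWD (AmpleX.powElt tV m), AmpleX.res_powElt,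
          AmpleX.res_powElt, hh, AmpleX.powElt_smul]
      rw [key a ha, key b hb])
  obtain ⟨T', hT'⟩ := AmpleX.exists_locus_cl (N := CohB1.tensorPow L (n * m * (p + 1)))
    (show PicF.cl (CohB1.tensorPow (CohB1.tensorPow M m) (p + 1)) = _ by
      rw [cl_tensorPow, cl_tensorPow, cl_tensorPow, cl_tensorPow, ← pow_mul, ← pow_mul, mul_assoc]) T
  refine ⟨n * m * (p + 1), Nat.mul_pos (Nat.mul_pos hn (Nat.succ_pos _)) (Nat.succ_pos _), InvX.ofSect T', ?_⟩
  rw [AmpleX.genLocus_eq_locus, InvX.one_ofSect, hT', hT]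
  refine ⟨?_, hVa⟩
  have : x ∈ i ⁻¹ᵁ V := hV.symm ▸ hxs
  exact this

theorem isAmple_pullback_closedImmersion {L : Y.Modules} (h : CohB1.IsAmple L) :
    CohB1.IsAmple ((Scheme.Modules.pullback i).obj L) := by
  obtain ⟨hL, hc, hy⟩ := AmpleX.isAmple_iff.1 h
  haveI := hc
  haveI : CompactSpace X := QuasiCompact.compactSpace_of_compactSpace i
  refine AmpleX.isAmple_iff.2 ⟨PicClLib.isInvertible_pullback i hL, inferInstance, fun x => ?_⟩
  obtain ⟨n, hn, s, hxs, hs⟩ := hy (i x)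
  obtain ⟨b, hb⟩ := AmpleX.exists_pull_section hL i (InvX.one s)
  refine ⟨n, hn, InvX.ofSect b, ?_⟩
  rw [AmpleX.genLocus_eq_locus, InvX.one_ofSect]
  rw [AmpleX.genLocus_eq_locus] at hxs hs
  exact ⟨hb.ge hxs, hb.symm ▸ hs.preimage i⟩

end Thick

/-- Ampleness is insensitive to thickenings. -/
theorem isAmple_thickening_iff {i : X ⟶ Y} (hi : MoreMor.IsThickening i) {L : Y.Modules}
    (hL : PicF.IsInvertible L) : CohB1.IsAmple L ↔ CohB1.IsAmple ((Scheme.Modules.pullback i).obj L) := by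
  haveI := hi.1
  exact ⟨isAmple_pullback_closedImmersion i, isAmple_of_isAmple_pullback i hi.2.1 hL⟩

/-- Relative ampleness is insensitive to thickenings. -/
theorem isRelAmple_thickening_iff {X' S S' : Scheme.{u}} {iX : X ⟶ X'} {iS : S ⟶ S'} (f : X ⟶ S) (f' : X' ⟶ S')
    (hX : MoreMor.IsThickening iX) (hS : MoreMor.IsThickening iS) (w : iX ≫ f' = f ≫ iS)
    {L' : X'.Modules} (hL' : PicF.IsInvertible L') :
    RelAmple.IsRelAmple f' L' ↔ RelAmple.IsRelAmple f ((Scheme.Modules.pullback iX).obj L') := by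
  haveI := hX.1
  haveI := hS.1
  let L := (Scheme.Modules.pullback iX).obj L'
  have hpre : ∀ V : S'.Opens, iX ⁻¹ᵁ (f' ⁻¹ᵁ V) = f ⁻¹ᵁ (iS ⁻¹ᵁ V) := fun V => by
    rw [← Scheme.Hom.comp_preimage, w]; rfl
  have hth : ∀ V : S'.Opens, MoreMor.IsThickening (iX ∣_ (f' ⁻¹ᵁ V)) := fun V =>
    ⟨IsZariskiLocalAtTarget.restrict (P := @IsClosedImmersion) hX.1 _,
      IsZariskiLocalAtTarget.restrict (P := @Surjective) hX.2 _⟩
  have key : ∀ (V : S'.Opens), CohB1.IsAmple (L'.restrict (f' ⁻¹ᵁ V).ι) ↔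
      CohB1.IsAmple (L.restrict (f ⁻¹ᵁ (iS ⁻¹ᵁ V)).ι) := fun V => by
    rw [isAmple_thickening_iff (hth V) (AmpleX.isInvertible_restrict _ hL'), ← hpre V]
    let W := f' ⁻¹ᵁ V
    let e : (Scheme.Modules.pullback (iX ∣_ W)).obj (L'.restrict W.ι) ≅ L.restrict (iX ⁻¹ᵁ W).ι :=
      (Scheme.Modules.pullback (iX ∣_ W)).mapIso ((Scheme.Modules.restrictFunctorIsoPullback W.ι).app L') ≪≫
        (Scheme.Modules.pullbackComp (iX ∣_ W) W.ι).app L' ≪≫
        (Scheme.Modules.pullbackCongr (morphismRestrict_ι iX W)).app L' ≪≫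
        ((Scheme.Modules.pullbackComp (iX ⁻¹ᵁ W).ι iX).app L').symm ≪≫
        ((Scheme.Modules.restrictFunctorIsoPullback (iX ⁻¹ᵁ W).ι).app L).symm
    exact ⟨AmpleX.isAmple_of_iso e, AmpleX.isAmple_of_iso e.symm⟩
  constructor
  · rintro ⟨hq, h⟩
    haveI := hq
    haveI : QuasiCompact f := by
      haveI : QuasiCompact (f ≫ iS) := w ▸ inferInstance
      exact QuasiCompact.of_comp f iS
    have hL := PicClLib.isInvertible_pullback iX hL'
    refine AmpleX.isRelAmple_of_ampleOn fun x => ?_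
    obtain ⟨_, ⟨V, hV, rfl⟩, hxV, -⟩ :=
      S'.isBasis_affineOpens.exists_subset_of_mem_open (Set.mem_univ (iS (f x))) isOpen_univ
    exact ⟨iS ⁻¹ᵁ V, _, (f ⁻¹ᵁ (iS ⁻¹ᵁ V)).ι, inferInstance, hxV, by rw [Scheme.Opens.opensRange_ι],
      (key V).1 (h ⟨V, hV⟩)⟩
  · intro h
    refine ⟨⟨fun A hA hAc => ?_⟩, fun V => (key V.1).2 (h.2 ⟨iS ⁻¹ᵁ V.1, V.2.preimage iS⟩)⟩
    haveI := h.1
    have h1 : f'.base ⁻¹' A = iX.base '' ((f ≫ iS).base ⁻¹' A) := by
      rw [← w]
      exact (Set.image_preimage_eq (f'.base ⁻¹' A) hX.2.1).symm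
    rw [h1]
    exact ((f ≫ iS).isCompact_preimage (U := ⟨A, hA⟩) hAc).image iX.continuous

end Groth.Agent.FlatMor3
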