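import Groth.Agent.FlatB12.CdStrat
import Groth.Agent.FlatFun4.LimPres
import Groth.Agent.MorLib.LimPro
import Groth.Agent.MorLib.LimCons
import Groth.Agent.EGA41Lib.ConsQS
import Groth.Agent.S9206

/-!
# Completely decomposed morphisms descend along affine limits
-/

set_option backward.isDefEq.respectTransparency false
set_option backward.isDefEq.respectTransparency.types false

universe u

open CategoryTheory CategoryTheory.Limits AlgebraicGeometry TopologicalSpace Opposite

namespace Groth.Agent.FlatMor3.CDDescend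

variable {X₀ Y₀ : Scheme.{u}} (f₀ : X₀ ⟶ Y₀)

/-- `f₀` has a section over the residue field of `y`. -/
def Sec {Y : Scheme.{u}} (p : Y ⟶ Y₀) (y : Y) : Prop :=
  ∃ a : Spec (Y.residueField y) ⟶ X₀, a ≫ f₀ = Y.fromSpecResidueField y ≫ p

variable {f₀}

theorem Sec.of_hom {Y Z : Scheme.{u}} (g : Z ⟶ Y) {p : Y ⟶ Y₀} {r : Z ⟶ Y₀} (h : g ≫ p = r)
    {z : Z} (hs : Sec f₀ p (g z)) : Sec f₀ r z := by
  obtain ⟨a, ha⟩ := hs
  exact ⟨Spec.map (g.residueFieldMap z) ≫ a, by
    rw [Category.assoc, ha, Scheme.Hom.SpecMap_residueFieldMap_fromSpecResidueField_assoc, h]⟩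

theorem sec_of_bijective {X Y : Scheme.{u}} (f : X ⟶ Y) (g : X ⟶ X₀) (p : Y ⟶ Y₀)
    (h : g ≫ f₀ = f ≫ p) (x : X) (hx : Function.Bijective (f.residueFieldMap x)) :
    Sec f₀ p (f x) := by
  have : IsIso (f.residueFieldMap x) := (ConcreteCategory.isIso_iff_bijective _).2 hx
  refine ⟨Spec.map (inv (f.residueFieldMap x)) ≫ X.fromSpecResidueField x ≫ g, ?_⟩
  rw [Category.assoc, Category.assoc, h,
    ← Scheme.Hom.SpecMap_residueFieldMap_fromSpecResidueField_assoc f x p, ← Spec.map_comp_assoc,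
    IsIso.hom_inv_id, Spec.map_id, Category.id_comp]

theorem exists_bijective_of_sec {Y : Scheme.{u}} (p : Y ⟶ Y₀) {y : Y} (hs : Sec f₀ p y)
    {X : Scheme.{u}} {f : X ⟶ Y} {g : X ⟶ X₀} (hP : IsPullback g f f₀ p) :
    ∃ x : X, f x = y ∧ Function.Bijective (f.residueFieldMap x) := by
  obtain ⟨a, ha⟩ := hs
  let s := hP.lift a (Y.fromSpecResidueField y) ha
  let q : Spec (Y.residueField y) := IsLocalRing.closedPoint _
  refine ⟨s q, ?_, (f.residueFieldMap (s q)).hom.injective, ?_⟩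
  · rw [← Scheme.Hom.comp_apply, hP.lift_snd]
    exact Y.fromSpecResidueField_apply y q
  · have hcomp : s ≫ f = Y.fromSpecResidueField y := hP.lift_snd _ _ _
    have h1 := Scheme.residueFieldMap_comp s f q
    have h2 : Function.Surjective ((Y.fromSpecResidueField y).residueFieldMap q).hom := by
      intro b
      obtain ⟨c, rfl⟩ := Scheme.residue_surjective _ q b
      obtain ⟨d, rfl⟩ := (Y.fromSpecResidueField y).stalkMap_surjective q c
      exact ⟨Y.residue _ d, ConcreteCategory.congr_hom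
        (Scheme.residue_residueFieldMap (Y.fromSpecResidueField y) q) d⟩
    have h3 : Function.Surjective ((s ≫ f).residueFieldMap q).hom := by rw [hcomp]; exact h2
    rw [h1] at h3
    intro b
    obtain ⟨c, hc⟩ := h3 (s.residueFieldMap q b)
    exact ⟨c, (s.residueFieldMap q).hom.injective hc⟩

theorem bijective_residueFieldMap_of_preimmersion {Z Y : Scheme.{u}} (z : Z ⟶ Y) [IsPreimmersion z]
    (t : Z) : Function.Bijective (z.residueFieldMap t) := by
  refine ⟨(z.residueFieldMap t).hom.injective, fun b => ?_⟩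
  obtain ⟨c, rfl⟩ := Scheme.residue_surjective _ t b
  obtain ⟨d, rfl⟩ := z.stalkMap_surjective t c
  exact ⟨Y.residue _ d, ConcreteCategory.congr_hom (Scheme.residue_residueFieldMap z t) d⟩

/-- The points with a section form an ind-constructible set. -/
theorem isIndConstructible_sec [LocallyOfFinitePresentation f₀] {Y : Scheme.{u}} [CompactSpace Y]
    [QuasiSeparatedSpace Y] (p : Y ⟶ Y₀) :
    ProCons.IsIndConstructible {y : Y | Sec f₀ p y} := by
  rw [← EGA41Lib.co_iff_ind]
  have h : ∀ y : {y : Y // Sec f₀ p y}, ∃ K : Set Y, y.1 ∈ K ∧ SpecLib.CO K ∧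
      K ⊆ {y : Y | Sec f₀ p y} := by
    rintro ⟨y, hy⟩
    obtain ⟨x, hx, hxb⟩ := exists_bijective_of_sec p hy (IsPullback.of_hasPullback f₀ p)
    obtain ⟨Z, z, hz, -, -, -, hmem, hCO, s, hs⟩ :=
      FlatB12.exists_section_stratum (pullback.snd f₀ p) x hxb
    refine ⟨Set.range z, hx ▸ hmem, hCO, ?_⟩
    rintro _ ⟨t, rfl⟩
    refine sec_of_bijective z (s ≫ pullback.fst _ z ≫ pullback.fst f₀ p) p ?_ t
      (bijective_residueFieldMap_of_preimmersion z t)
    rw [Category.assoc, Category.assoc, pullback.condition, pullback.condition_assoc,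
      reassoc_of% hs]
  choose K hmem hCO hsub using h
  have e : {y : Y | Sec f₀ p y} = ⋃ y, K y := by
    refine Set.Subset.antisymm (fun y hy => Set.mem_iUnion.2 ⟨⟨y, hy⟩, hmem ⟨y, hy⟩⟩) ?_
    exact Set.iUnion_subset hsub
  rw [e]
  exact SpecLib.CO.iUnion hCO

/-- A section over the residue field of a point of the limit descends to a stage. -/
theorem exists_stage_sec [LocallyOfFiniteType f₀] {I : Type u} [SmallCategory I] [IsCofiltered I]
    {D : I ⥤ Scheme.{u}} {c : Cone D} (hc : IsLimit c)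
    [∀ (i j : I) (φ : i ⟶ j), IsAffineHom (D.map φ)] (p : D ⟶ (Functor.const I).obj Y₀)
    {y : c.pt} {i₀ : I} (hy : Sec f₀ (c.π.app i₀ ≫ p.app i₀) y) :
    ∃ j, Sec f₀ (p.app j) (c.π.app j y) := by
  classical
  have hp : ∀ {i j : I} (φ : i ⟶ j), D.map φ ≫ p.app j = p.app i := fun φ => by
    rw [p.naturality φ]; exact Category.comp_id _
  have hall : ∀ i j, c.π.app i ≫ p.app i = c.π.app j ≫ p.app j := fun i j => by
    rw [← c.w (IsCofiltered.minToLeft i j), ← c.w (IsCofiltered.minToRight i j), Category.assoc,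
      Category.assoc, hp, hp]
  obtain ⟨a, ha⟩ := hy
  let q : Spec (c.pt.residueField y) := IsLocalRing.closedPoint _
  obtain ⟨_, ⟨U, hU, rfl⟩, hxU, -⟩ :=
    Y₀.isBasis_affineOpens.exists_subset_of_mem_open (Set.mem_univ (f₀ (a q))) isOpen_univ
  obtain ⟨_, ⟨W, hW, rfl⟩, hxW, hWU⟩ :=
    X₀.isBasis_affineOpens.exists_subset_of_mem_open (show a q ∈ f₀ ⁻¹ᵁ U from hxU) (f₀ ⁻¹ᵁ U).2
  have hyU : ∀ i, p.app i (c.π.app i y) ∈ U := by
    intro i
    have e : f₀ (a q) = p.app i (c.π.app i y) := by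
      rw [← Scheme.Hom.comp_apply a f₀, ha, hall i₀ i, Scheme.Hom.comp_apply,
        Scheme.fromSpecResidueField_apply, Scheme.Hom.comp_apply]
      rfl
    rwa [← e]
  have hrW : Set.range a ⊆ Set.range hW.fromSpec := by
    rintro _ ⟨w, rfl⟩
    rw [hW.range_fromSpec, Subsingleton.elim w q]
    exact hxW
  obtain ⟨φ, hφ⟩ := Spec.map_surjective (IsOpenImmersion.lift hW.fromSpec a hrW)
  have hφa : Spec.map φ ≫ hW.fromSpec = a := by rw [hφ, IsOpenImmersion.lift_fac]
  have hα : ∀ i, ∃ α : Γ(Y₀, U) ⟶ (D.obj i).residueField (c.π.app i y),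
      Spec.map α ≫ hU.fromSpec = (D.obj i).fromSpecResidueField (c.π.app i y) ≫ p.app i := by
    intro i
    have h : Set.range ((D.obj i).fromSpecResidueField (c.π.app i y) ≫ p.app i) ⊆
        Set.range hU.fromSpec := by
      rintro _ ⟨w, rfl⟩
      rw [hU.range_fromSpec, Scheme.Hom.comp_apply, Scheme.fromSpecResidueField_apply]
      exact hyU i
    obtain ⟨α, hα⟩ := Spec.map_surjective (IsOpenImmersion.lift hU.fromSpec _ h)
    exact ⟨α, by rw [hα, IsOpenImmersion.lift_fac]⟩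
  choose α hα using hα
  let β := f₀.appLE U W hWU
  have hcompat : ∀ i, β ≫ φ = α i ≫ (c.π.app i).residueFieldMap y := fun i => by
    apply Spec.map_injective
    rw [← cancel_mono hU.fromSpec, Spec.map_comp, Spec.map_comp, Category.assoc, Category.assoc,
      hα, hU.SpecMap_appLE_fromSpec f₀ hW hWU, ← Category.assoc, hφa, ha,
      Scheme.Hom.SpecMap_residueFieldMap_fromSpecResidueField_assoc, hall i₀ i]
    rfl
  let R : I → Subring (c.pt.residueField y) := fun i => ((c.π.app i).residueFieldMap y).hom.range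
  have hmono : ∀ {i j : I} (ψ : i ⟶ j), R j ≤ R i := by
    intro i j ψ
    have hle : ∀ (h : c.pt ⟶ D.obj j), c.π.app i ≫ D.map ψ = h →
        (h.residueFieldMap y).hom.range ≤ R i := by
      rintro h rfl _ ⟨b, rfl⟩
      exact ⟨_, by rw [Scheme.residueFieldMap_comp]; rfl⟩
    exact hle _ (c.w ψ)
  have : LocallyOfFiniteType f₀ := inferInstance
  have hft : β.hom.FiniteType := f₀.finiteType_appLE hU hW hWU
  letI := β.hom.toAlgebra
  obtain ⟨s, hs⟩ := (show Algebra.FiniteType Γ(Y₀, U) Γ(X₀, W) from hft).out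
  choose ig bg hbg using fun g : Γ(X₀, W) => S9206.result D c hc y (φ g)
  obtain ⟨j, hj⟩ := IsCofiltered.inf_objs_exists (insert i₀ (s.image ig))
  have hle : ∀ g : Γ(X₀, W), φ g ∈ R j := by
    intro g
    have hg : g ∈ Algebra.adjoin Γ(Y₀, U) (s : Set Γ(X₀, W)) := hs ▸ trivial
    induction hg using Algebra.adjoin_induction with
    | mem g hg =>
      exact hmono (hj (Finset.mem_insert_of_mem (Finset.mem_image_of_mem ig hg))).some
        ⟨bg g, hbg g⟩
    | algebraMap r =>
      exact ⟨α j r, (congr(($(hcompat j)).hom r)).symm⟩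
    | add x y _ _ hx hy => rw [map_add]; exact add_mem hx hy
    | mul x y _ _ hx hy => rw [map_mul]; exact mul_mem hx hy
  let ρ := ((c.π.app j).residueFieldMap y).hom
  let e : (D.obj j).residueField (c.π.app j y) ≃+* R j :=
    RingEquiv.ofBijective ρ.rangeRestrict
      ⟨fun a b h => ρ.injective (congrArg Subtype.val h), ρ.rangeRestrict_surjective⟩
  let ψ : Γ(X₀, W) ⟶ (D.obj j).residueField (c.π.app j y) :=
    CommRingCat.ofHom (e.symm.toRingHom.comp (φ.hom.codRestrict (R j) hle))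
  have hψ : ∀ g, ρ (ψ g) = φ g := fun g =>
    congrArg Subtype.val (e.apply_symm_apply (φ.hom.codRestrict (R j) hle g))
  refine ⟨j, Spec.map ψ ≫ hW.fromSpec, ?_⟩
  have hβψ : β ≫ ψ = α j := by
    ext r
    apply ρ.injective
    show ρ (ψ (β r)) = ρ (α j r)
    rw [hψ]
    exact congr(($(hcompat j)).hom r)
  rw [Category.assoc, ← hU.SpecMap_appLE_fromSpec f₀ hW hWU, ← Spec.map_comp_assoc, hβψ, hα]

theorem exists_stage_cd {I : Type u} [SmallCategory I] [IsCofiltered I]
    (D : I ⥤ Scheme.{u}) (c : Cone D) (hc : IsLimit c)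
    [∀ (i j : I) (a : i ⟶ j), IsAffineHom (D.map a)]
    (i₀ : I) {X Y : Scheme.{u}} (f₀ : X₀ ⟶ Y₀) (q₀ : Y₀ ⟶ D.obj i₀) [CompactSpace Y₀]
    [QuasiSeparatedSpace Y₀] [LocallyOfFinitePresentation f₀]
    (f : X ⟶ Y) (q : Y ⟶ c.pt) (pY : Y ⟶ Y₀) (pX : X ⟶ X₀)
    (hY : IsPullback pY q q₀ (c.π.app i₀)) (hX : IsPullback pX f f₀ pY)
    (hcd : ∀ y : Y, ∃ x : X, f x = y ∧ Function.Bijective (f.residueFieldMap x)) :
    ∃ (i : I) (a : i ⟶ i₀) (Xi Yi : Scheme.{u}) (fi : Xi ⟶ Yi) (qi : Yi ⟶ D.obj i)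
      (pYi : Yi ⟶ Y₀) (pXi : Xi ⟶ X₀),
      IsPullback pYi qi q₀ (D.map a) ∧ IsPullback pXi fi f₀ pYi ∧
      ∀ y : Yi, ∃ x : Xi, fi x = y ∧ Function.Bijective (fi.residueFieldMap x) := by
  let D' : Over i₀ ⥤ Over (D.obj i₀) :=
    { obj := fun k => Over.mk (D.map k.hom)
      map := fun {k l} φ => Over.homMk (D.map φ.left) (by
        simp only [Over.mk_hom, ← D.map_comp, Over.w])
      map_id := fun k => by ext; simp
      map_comp := fun φ ψ => by ext; simp }
  let c' : Cone D' :=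
    { pt := Over.mk (c.π.app i₀)
      π :=
        { app := fun k => Over.homMk (c.π.app k.left) (c.w k.hom)
          naturality := fun k l φ => by ext; simp [D'] } }
  have hc' : IsLimit ((Over.forget (D.obj i₀)).mapCone c') :=
    IsLimit.ofIsoLimit ((Functor.Initial.isLimitWhiskerEquiv (Over.forget i₀) c).symm hc)
      (Cone.ext (Iso.refl _) (fun k => (Category.id_comp _).symm))
  let E := FlatFun4.XTdiag q₀ D'
  let e := FlatFun4.XTcone q₀ D' c'
  have he : IsLimit e := FlatFun4.isLimit_XTcone q₀ D' c' hc'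
  let p : E ⟶ (Functor.const (Over i₀)).obj Y₀ :=
    { app := fun k => pullback.fst _ _
      naturality := fun k l φ => by
        simp [E, FlatFun4.XTdiag, PicF.XTmap] }
  have hmap : ∀ k l (φ : k ⟶ l), IsAffineHom (E.map φ) := fun k l φ =>
    MorphismProperty.of_isPullback (P := @IsAffineHom)
      (HilbDLib.isPullback_XTmap q₀ (D'.map φ)).flip
      (show IsAffineHom (D.map φ.left) from inferInstance)
  have : IsAffineHom (c.π.app i₀) := isAffineHom_π_app D c hc i₀
  have hfst : ∀ k, IsAffineHom (p.app k) := fun k =>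
    show IsAffineHom (pullback.fst q₀ (D.map k.hom)) from inferInstance
  have hcomp : ∀ k, CompactSpace (E.obj k) := fun k =>
    haveI : IsAffineHom (pullback.fst q₀ (D.map k.hom)) := hfst k
    QuasiCompact.compactSpace_of_compactSpace (pullback.fst q₀ (D.map k.hom))
  have hqs : ∀ k, QuasiSeparatedSpace (E.obj k) := fun k =>
    haveI : IsAffineHom (pullback.fst q₀ (D.map k.hom)) := hfst k
    quasiSeparatedSpace_of_quasiSeparated (pullback.fst q₀ (D.map k.hom))
  let k₀ : Over i₀ := Over.mk (𝟙 i₀)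
  let C : ∀ k, Set (E.obj k) := fun k => {y | Sec f₀ (p.app k) y}
  have hnat : ∀ {k l} (φ : k ⟶ l), E.map φ ≫ p.app l = p.app k := fun φ => by
    rw [p.naturality φ]; exact Category.comp_id _
  have hcone : ∀ k, e.π.app k ≫ p.app k = pullback.fst q₀ (c.π.app i₀) := fun k => by
    simp [e, p, FlatFun4.XTcone, PicF.XTmap, c']
  have hcov : (⋂ k, e.π.app k ⁻¹' (Set.univ : Set (E.obj k)) : Set e.pt) ⊆
      ⋃ k, e.π.app k ⁻¹' C k := by
    intro y' _
    let ε : e.pt ⟶ Y := hY.isoPullback.inv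
    obtain ⟨x, hx, hxb⟩ := hcd (ε y')
    have h0 : Sec f₀ pY (ε y') := hx ▸ sec_of_bijective f pX pY hX.w x hxb
    have h1 : Sec f₀ (pullback.fst q₀ (c.π.app i₀)) y' :=
      h0.of_hom ε hY.isoPullback_inv_fst
    rw [← hcone k₀] at h1
    obtain ⟨k, hk⟩ := exists_stage_sec he p h1
    exact Set.mem_iUnion.2 ⟨k, hk⟩
  obtain ⟨k, -, hk⟩ := (MorLib.LimPro.subset_iff he k₀ (fun _ => Set.univ) C
    (fun _ _ => MorLib.LimCons.pro_univ) (fun k _ => isIndConstructible_sec (p.app k))
    (fun _ _ _ => by simp) (fun k l φ y hy => Sec.of_hom (E.map φ) (hnat φ) hy)).1 hcov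
  refine ⟨k.left, k.hom, pullback f₀ (p.app k), E.obj k, pullback.snd _ _, pullback.snd _ _,
    p.app k, pullback.fst _ _, IsPullback.of_hasPullback q₀ (D.map k.hom),
    IsPullback.of_hasPullback _ _, fun y => ?_⟩
  exact exists_bijective_of_sec (p.app k) (hk k (𝟙 k) (Set.mem_univ y))
    (IsPullback.of_hasPullback _ _)

end Groth.Agent.FlatMor3.CDDescend
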