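import Mathlib
import Groth.Prelude.Def_FlatCA

/-!
# Associated primes of fibre modules under base change
-/

universe u

open TensorProduct

namespace Groth.Agent.FlatMor3

/-- An associated prime lifts along an injective semilinear map into a module over a noetherian ring. -/
theorem exists_associatedPrime_comap {R R' M M' : Type u} [CommRing R] [CommRing R'] [IsNoetherianRing R']
    [AddCommGroup M] [Module R M] [AddCommGroup M'] [Module R' M'] (ψ : R →+* R') (g : M →ₛₗ[ψ] M')
    (hg : Function.Injective g) {P : Ideal R} (hP : P ∈ associatedPrimes R M) :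
    ∃ Q ∈ associatedPrimes R' M', Q.comap ψ = P := by
  obtain ⟨hPp, x, hx⟩ := hP
  let I := (Submodule.span R' {g x}).annihilator
  have hann : ∀ r : R, r • x = 0 ↔ ψ r ∈ I := fun r => by
    rw [Submodule.mem_annihilator_span_singleton, ← map_smulₛₗ g, map_eq_zero_iff g hg]
  have hker : (Submodule.colon (⊥ : Submodule R M) {x}) = I.comap ψ := by
    ext r
    rw [Submodule.mem_colon_singleton, Submodule.mem_bot, Ideal.mem_comap]
    exact hann r
  have hmin : P ∈ (I.comap ψ).minimalPrimes := by
    refine ⟨⟨hPp, by rw [hx, hker]; exact Ideal.le_radical⟩, fun J hJ _ => ?_⟩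
    rw [hx, hker]
    exact hJ.1.radical_le_iff.2 hJ.2
  obtain ⟨Q₀, hQ₀p, hQ₀I, hQ₀⟩ : ∃ Q : Ideal R', Q.IsPrime ∧ I ≤ Q ∧ Q.comap ψ = P := by
    obtain ⟨q, h1, h2, h⟩ := Ideal.exists_comap_eq_of_mem_minimalPrimes ψ P hmin
    exact ⟨q, h1, h2, h⟩
  haveI := hQ₀p
  obtain ⟨Q, hQ, hQle⟩ := Ideal.exists_minimalPrimes_le hQ₀I
  refine ⟨Q, ?_, ?_⟩
  · have h1 : Q ∈ (Module.annihilator R' (Submodule.span R' {g x})).minimalPrimes := hQ
    haveI : Module.Finite R' (Submodule.span R' {g x}) := Module.Finite.span_of_finite R' (Set.finite_singleton _)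
    exact associatedPrimes.subset_of_injective (Submodule.injective_subtype _)
      (Module.associatedPrimes.minimalPrimes_annihilator_subset_associatedPrimes R' _ h1)
  · haveI := hQ.1.1
    refine le_antisymm ((Ideal.comap_mono hQle).trans hQ₀.le) (hmin.2 ⟨Ideal.IsPrime.comap ψ, ?_⟩ ?_)
    · exact Ideal.comap_mono hQ.1.2
    · exact (Ideal.comap_mono hQle).trans hQ₀.le

attribute [local instance] Algebra.TensorProduct.rightAlgebra

section

variable {R S : Type u} [CommRing R] [CommRing S] [Algebra R S]

instance finiteType_fiber (p : Ideal R) [p.IsPrime] [Algebra.FiniteType R S] :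
    IsNoetherianRing (p.Fiber S) :=
  Algebra.FiniteType.isNoetherianRing p.ResidueField _

theorem comap_fiberIdeal_of_prime (p : Ideal R) [p.IsPrime] (Q : Ideal (p.Fiber S)) [Q.IsPrime] :
    FlatCA.fiberIdeal p (Q.comap (algebraMap S (p.Fiber S))) = Q := by
  refine le_antisymm (Ideal.map_le_iff_le_comap.2 le_rfl) fun z hz => ?_
  obtain ⟨r, hr, s, hs⟩ := Ideal.Fiber.exists_smul_eq_one_tmul p z
  have hu : IsUnit (algebraMap R (p.Fiber S) r) := by
    rw [IsScalarTower.algebraMap_apply R p.ResidueField (p.Fiber S)]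
    refine (IsUnit.mk0 _ ?_).map _
    rwa [ne_eq, Ideal.algebraMap_residueField_eq_zero]
  have h1 : (1 : p.ResidueField) ⊗ₜ[R] s ∈ Q := by
    rw [← hs, Algebra.smul_def]
    exact Q.mul_mem_left _ hz
  have h2 : r • z ∈ FlatCA.fiberIdeal p (Q.comap (algebraMap S (p.Fiber S))) := by
    rw [hs]
    exact Ideal.mem_map_of_mem _ h1
  rw [Algebra.smul_def] at h2
  exact (Ideal.unit_mul_mem_iff_mem _ hu).1 h2

theorem algebraMap_fiber_base (p : Ideal R) [p.IsPrime] (r : R) :
    algebraMap S (p.Fiber S) (algebraMap R S r) =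
      algebraMap p.ResidueField (p.Fiber S) (algebraMap R p.ResidueField r) := by
  show (1 : p.ResidueField) ⊗ₜ[R] algebraMap R S r = algebraMap R p.ResidueField r ⊗ₜ[R] (1 : S)
  rw [Algebra.algebraMap_eq_smul_one (A := S), ← TensorProduct.smul_tmul, Algebra.smul_def, mul_one]

theorem liesOver_of_fiber (p : Ideal R) [p.IsPrime] (Q : Ideal (p.Fiber S)) [Q.IsPrime] :
    (Q.comap (algebraMap S (p.Fiber S))).LiesOver p := by
  refine ⟨Ideal.ext fun r => ?_⟩
  rw [Ideal.under, Ideal.mem_comap, Ideal.mem_comap, algebraMap_fiber_base]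
  constructor
  · intro hr
    rw [Ideal.algebraMap_residueField_eq_zero.2 hr, map_zero]
    exact Q.zero_mem
  · intro hr
    by_contra h
    refine (inferInstance : Q.IsPrime).ne_top (Q.eq_top_of_isUnit_mem hr ((IsUnit.mk0 _ ?_).map _))
    rwa [ne_eq, Ideal.algebraMap_residueField_eq_zero]

theorem comap_fiberIdeal_of_liesOver (p : Ideal R) [p.IsPrime] (P : Ideal S) [P.IsPrime] [P.LiesOver p] :
    (FlatCA.fiberIdeal p P).comap (algebraMap S (p.Fiber S)) = P := by
  let h : P ∈ p.primesOver S := ⟨inferInstance, inferInstance⟩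
  have h1 := congrArg Subtype.val ((PrimeSpectrum.primesOverOrderIsoFiber R S p).symm_apply_apply ⟨P, h⟩)
  have h2 : (PrimeSpectrum.primesOverOrderIsoFiber R S p ⟨P, h⟩).asIdeal.comap (algebraMap S (p.Fiber S)) = P := h1
  have h3 : FlatCA.fiberIdeal p P = (PrimeSpectrum.primesOverOrderIsoFiber R S p ⟨P, h⟩).asIdeal := by
    conv_lhs => rw [← h2]
    exact comap_fiberIdeal_of_prime p _
  rw [h3, h2]

end

/-- An associated prime of a fibre module lifts to any base change. -/
theorem exists_fiber_associatedPrime_baseChange {R S R' S' M M' : Type u} [CommRing R] [CommRing S] [CommRing R']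
    [CommRing S'] [Algebra R S] [Algebra R R'] [Algebra S S'] [Algebra R' S'] [Algebra R S']
    [IsScalarTower R S S'] [IsScalarTower R R' S'] [Algebra.IsPushout R S R' S'] [Algebra.FiniteType R' S']
    [AddCommGroup M] [Module S M] [AddCommGroup M'] [Module S' M'] [Module S M'] [IsScalarTower S S' M']
    (h : M →ₗ[S] M') (hh : IsBaseChange S' h) (p : Ideal R) [p.IsPrime] (p' : Ideal R') [p'.IsPrime]
    [p'.LiesOver p] (P : Ideal S) [P.IsPrime] [P.LiesOver p]
    (hP : FlatCA.fiberIdeal p P ∈ associatedPrimes (p.Fiber S) (FlatCA.fiberMod p S M)) :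
    ∃ (Q : Ideal S') (_ : Q.IsPrime), Q.LiesOver p' ∧ Q.comap (algebraMap S S') = P ∧
      FlatCA.fiberIdeal p' Q ∈ associatedPrimes (p'.Fiber S') (FlatCA.fiberMod p' S' M') := by
  let F := p.Fiber S
  let F' := p'.Fiber S'
  let k := p.ResidueField
  let k' := p'.ResidueField
  letI : Algebra k k' := (Ideal.ResidueField.mapₐ p p' (Algebra.ofId R R') Ideal.LiesOver.over).toRingHom.toAlgebra
  haveI : IsScalarTower R k k' := .of_algebraMap_eq fun r =>
    ((Ideal.ResidueField.mapₐ p p' (Algebra.ofId R R') Ideal.LiesOver.over).commutes r).symm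
  letI : Algebra S F' := ((algebraMap S' F').comp (algebraMap S S')).toAlgebra
  haveI : IsScalarTower S S' F' := .of_algebraMap_eq fun _ => rfl
  haveI : IsScalarTower k k' F' := inferInstance
  have hR : ∀ r, algebraMap R F' r = algebraMap S F' (algebraMap R S r) := fun r => by
    show algebraMap R F' r = algebraMap S' F' (algebraMap S S' (algebraMap R S r))
    rw [← IsScalarTower.algebraMap_apply R S S', IsScalarTower.algebraMap_apply R R' S',
      algebraMap_fiber_base, ← IsScalarTower.algebraMap_apply R R' k']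
    rfl
  haveI : IsScalarTower R S F' := .of_algebraMap_eq hR
  haveI : IsScalarTower R k F' := .of_algebraMap_eq fun r => by
    show algebraMap R F' r = algebraMap k' F' (algebraMap k k' (algebraMap R k r))
    rw [← IsScalarTower.algebraMap_apply R k k']
    rfl
  haveI : IsScalarTower R S' F' := IsScalarTower.of_algebraMap_eq fun r => by
    rw [hR, IsScalarTower.algebraMap_apply R S S']; rfl
  haveI : IsScalarTower R R' F' := IsScalarTower.of_algebraMap_eq fun r => by
    rw [IsScalarTower.algebraMap_apply R S' F', IsScalarTower.algebraMap_apply R R' S']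
    exact algebraMap_fiber_base p' _
  haveI : IsScalarTower R k' F' := IsScalarTower.of_algebraMap_eq fun r => by
    rw [IsScalarTower.algebraMap_apply R R' F', IsScalarTower.algebraMap_apply R R' k']; rfl
  haveI : IsScalarTower R' S' F' := IsScalarTower.of_algebraMap_eq fun r => (algebraMap_fiber_base p' r).symm
  let ψ : F →ₐ[R] F' := Algebra.TensorProduct.lift (IsScalarTower.toAlgHom R k F') (IsScalarTower.toAlgHom R S F')
    (fun _ _ => .all _ _)
  letI : Algebra F F' := ψ.toRingHom.toAlgebra
  haveI : IsScalarTower S F F' := .of_algebraMap_eq fun s => by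
    show algebraMap S F' s = ψ ((1 : k) ⊗ₜ[R] s)
    exact ((Algebra.TensorProduct.lift_tmul _ _ _ _ _).trans (by simp)).symm
  haveI : IsScalarTower k F F' := .of_algebraMap_eq fun c => by
    show algebraMap k F' c = ψ (c ⊗ₜ[R] (1 : S))
    refine ((Algebra.TensorProduct.lift_tmul _ _ _ _ _).trans ?_).symm
    rw [map_one, mul_one]
    rfl
  -- the module map
  let G := FlatCA.fiberMod p S M
  let G' := FlatCA.fiberMod p' S' M'
  haveI : IsScalarTower S F G := inferInstanceAs (IsScalarTower S F (F ⊗[S] M))
  haveI : IsScalarTower S' F' G' := inferInstanceAs (IsScalarTower S' F' (F' ⊗[S'] M'))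
  let f : M →ₗ[S] G := FlatCA.toFiberMod p (S := S) M
  have hf : IsBaseChange F f := TensorProduct.isBaseChange S M F
  let f' : M' →ₗ[S'] G' := FlatCA.toFiberMod p' (S := S') M'
  have hf' : IsBaseChange F' f' := TensorProduct.isBaseChange S' M' F'
  letI : Module F G' := Module.compHom G' (algebraMap F F')
  haveI : IsScalarTower F F' G' := IsScalarTower.of_algebraMap_smul fun _ _ => rfl
  letI : Module S G' := Module.compHom G' (algebraMap S F')
  haveI : IsScalarTower S F' G' := IsScalarTower.of_algebraMap_smul fun _ _ => rfl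
  haveI : IsScalarTower S F G' := IsScalarTower.of_algebraMap_smul fun s z => by
    show algebraMap F F' (algebraMap S F s) • z = algebraMap S F' s • z
    rw [← IsScalarTower.algebraMap_apply]
  haveI : IsScalarTower S S' G' := IsScalarTower.of_algebraMap_smul fun s z => by
    show algebraMap S S' s • z = algebraMap S F' s • z
    rw [← IsScalarTower.algebraMap_smul F' (algebraMap S S' s) z]; rfl
  let g : G →ₗ[F] G' := hf.lift ((f'.restrictScalars S).comp h)
  have hg : IsBaseChange F' g := by
    refine hf.of_comp ?_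
    have : (g : G →ₗ[S] G') ∘ₗ f = (f'.restrictScalars S).comp h := hf.lift_comp _
    rw [this]
    exact hh.comp hf'
  -- faithful flatness of the map of fibres
  haveI : Algebra.IsPushout R S k F := TensorProduct.isPushout'
  haveI : Algebra.IsPushout R' S' k' F' := TensorProduct.isPushout'
  haveI : Algebra.IsPushout R R' S S' := .symm inferInstance
  haveI : Algebra.IsPushout R' k' S' F' := .symm inferInstance
  haveI h1 : Algebra.IsPushout R k' S F' := (Algebra.IsPushout.comp_iff R R' S (S' := S') (T := k') (T' := F')).2 inferInstance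
  haveI : Algebra.IsPushout R k S F := .symm inferInstance
  haveI h2 : Algebra.IsPushout k k' F F' := (Algebra.IsPushout.comp_iff R k S (S' := F) (T := k') (T' := F')).1 h1
  haveI : Module.FaithfullyFlat F F' := by
    haveI : Module.FaithfullyFlat k k' := inferInstance
    haveI : Algebra.IsPushout k F k' F' := .symm inferInstance
    exact Module.FaithfullyFlat.of_linearEquiv F (F ⊗[k] k') (Algebra.IsPushout.equiv k F k' F').toLinearEquiv.symm
  have hinj : Function.Injective g := by
    have h3 : ⇑g = fun x => hg.equiv ((1 : F') ⊗ₜ[F] x) := funext fun x => by rw [hg.equiv_tmul, one_smul]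
    rw [h3]
    exact hg.equiv.injective.comp (Module.FaithfullyFlat.tensorProduct_mk_injective G)
  let g' : G →ₛₗ[algebraMap F F'] G' :=
    { toFun := g, map_add' := map_add g, map_smul' := fun c x => by rw [map_smul]; rfl }
  haveI : IsNoetherianRing F' := finiteType_fiber p'
  obtain ⟨Q, hQ, hQP⟩ := exists_associatedPrime_comap (algebraMap F F') g' hinj hP
  haveI := hQ.isPrime
  refine ⟨Q.comap (algebraMap S' F'), inferInstance, liesOver_of_fiber p' Q, ?_, ?_⟩
  · rw [Ideal.comap_comap, ← IsScalarTower.algebraMap_eq S S' F', IsScalarTower.algebraMap_eq S F F',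
      ← Ideal.comap_comap, hQP]
    exact comap_fiberIdeal_of_liesOver p P
  · rw [comap_fiberIdeal_of_prime]
    exact hQ

end Groth.Agent.FlatMor3
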