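import Groth.Agent.FlatMor3.PullFrame
import Groth.Agent.EtLC12.AssocUnit

/-!
# Descent of homomorphisms of finite locally free modules along `f` with `O_Y → f_*O_X ⇉ g_*O` exact
-/

set_option autoImplicit false
set_option backward.isDefEq.respectTransparency false
set_option backward.isDefEq.respectTransparency.types false

universe u

open CategoryTheory CategoryTheory.Limits AlgebraicGeometry TopologicalSpace Opposite

namespace Groth.Agent.FlatMor3.HomDescent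

open Groth.Agent.AModX Groth.Agent.InvX
open Groth.Agent.EtLC12.AssocUnit (usec usec_map usec_comp)
open Groth.Agent.H23.Frame (comb)

variable {X Y P : Scheme.{u}}

lemma congr_inv_app {h h' : P ⟶ Y} (e : h = h') (M : Y.Modules) (O : Y.Opens)
    (le : h ⁻¹ᵁ O ≤ h' ⁻¹ᵁ O) (x : Γ(M, O)) :
    ((Scheme.Modules.pullbackCongr e).inv.app M).app (h ⁻¹ᵁ O)
      (res ((Scheme.Modules.pullback h').obj M) le (usec h' M O x)) = usec h M O x := by
  subst e
  exact res_self _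

lemma congr_hom_app {h h' : P ⟶ Y} (e : h = h') (M : Y.Modules) (O : Y.Opens)
    (le : h ⁻¹ᵁ O ≤ h' ⁻¹ᵁ O) (x : Γ(M, O)) :
    ((Scheme.Modules.pullbackCongr e).hom.app M).app (h ⁻¹ᵁ O) (usec h M O x) =
      res ((Scheme.Modules.pullback h').obj M) le (usec h' M O x) := by
  subst e
  exact (res_self _).symm

lemma usec_smul (f : X ⟶ Y) (M : Y.Modules) (O : Y.Opens) (c : Γ(Y, O)) (x : Γ(M, O)) :
    usec f M O (c • x) = f.app O c • usec f M O x :=
  Scheme.Modules.Hom.app_smul ((Scheme.Modules.pullbackPushforwardAdjunction f).unit.app M) c x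

lemma usec_res (f : X ⟶ Y) (M : Y.Modules) {O O' : Y.Opens} (i : O' ≤ O) (x : Γ(M, O)) :
    usec f M O' (res M i x) = res _ (f.preimage_mono i) (usec f M O x) :=
  app_res ((Scheme.Modules.pullbackPushforwardAdjunction f).unit.app M) i x

lemma usec_sum (f : X ⟶ Y) (M : Y.Modules) (O : Y.Opens) {ι : Type*} (t : Finset ι) (x : ι → Γ(M, O)) :
    usec f M O (∑ i ∈ t, x i) = ∑ i ∈ t, usec f M O (x i) :=
  map_sum (((Scheme.Modules.pullbackPushforwardAdjunction f).unit.app M).app O).hom x t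

lemma usec_map_hom (f : X ⟶ Y) {M N : Y.Modules} (φ : M ⟶ N) (O : Y.Opens) (x : Γ(M, O)) :
    ((Scheme.Modules.pullback f).map φ).app (f ⁻¹ᵁ O) (usec f M O x) = usec f N O (φ.app O x) :=
  (congrArg (fun t : M ⟶ (Scheme.Modules.pushforward f).obj _ => t.app O x)
    ((Scheme.Modules.pullbackPushforwardAdjunction f).unit.naturality φ)).symm

lemma comp_inv_usec {Z : Scheme.{u}} (f : X ⟶ Y) (g : Y ⟶ Z) (M : Z.Modules) (O : Z.Opens) (x : Γ(M, O)) :
    ((Scheme.Modules.pullbackComp f g).inv.app M).app (f ⁻¹ᵁ (g ⁻¹ᵁ O)) (usec (f ≫ g) M O x) =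
      usec f _ (g ⁻¹ᵁ O) (usec g M O x) := by
  rw [← usec_comp f g M O x]
  exact congrArg (fun t : (Scheme.Modules.pullback f).obj _ ⟶ _ => t.app (f ⁻¹ᵁ (g ⁻¹ᵁ O))
    (usec f _ (g ⁻¹ᵁ O) (usec g M O x))) ((Scheme.Modules.pullbackComp f g).hom_inv_id_app M)

variable (f : X ⟶ Y) (M : Y.Modules)

/-- Sections of `M` inject into sections of its inverse image. -/
theorem usec_injective (hinj : ∀ U : Y.Opens, Function.Injective (f.app U)) (hM : FlatMod.IsFinLocFree M)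
    (V : Y.Opens) : Function.Injective (usec f M V) := by
  intro x x' h
  refine eq_of_locally x x' fun y hy => ?_
  obtain ⟨U, n, hyU, ⟨e⟩⟩ := hM y
  obtain ⟨s, hs⟩ := H23.Frame.exists_frame e
  refine ⟨V ⊓ U, inf_le_left, ⟨hy, hyU⟩, ?_⟩
  obtain ⟨c, hc⟩ := (hs (V ⊓ U) inf_le_right).2 (res M inf_le_left x)
  obtain ⟨c', hc'⟩ := (hs (V ⊓ U) inf_le_right).2 (res M inf_le_left x')
  have key : ∀ d : Fin n → Γ(Y, V ⊓ U), usec f M (V ⊓ U) (comb M s _ inf_le_right d) =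
      comb ((Scheme.Modules.pullback f).obj M) (fun i => pullElt f (s i)) (f ⁻¹ᵁ (V ⊓ U))
        (f.preimage_mono inf_le_right) (fun i => f.app _ (d i)) := fun d => by
    rw [comb, usec_sum]
    refine Finset.sum_congr rfl fun i _ => ?_
    rw [usec_smul]
    exact congrArg _ (usec_res f M inf_le_right (s i))
  have e' := (key c).symm.trans ((congrArg (usec f M _) hc).trans ((usec_res f M inf_le_left x).trans
    ((congrArg (res _ (f.preimage_mono inf_le_left)) h).trans ((usec_res f M inf_le_left x').symm.trans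
      ((congrArg (usec f M _) hc').symm.trans (key c'))))))
  have hcc : c = c' := funext fun i => hinj _ (congrFun ((PullFrame.isFrame_pullElt f hs _ _).1 e') i)
  rw [← hc, ← hc', hcc]

variable {f M}

/-- A section of `f^*M`, pulled back along `p` to a section of `(p ≫ f)^*M`. -/
noncomputable def cmp (p : P ⟶ X) (O : Y.Opens) :
    Γ((Scheme.Modules.pullback f).obj M, f ⁻¹ᵁ O) →+
      Γ((Scheme.Modules.pullback (p ≫ f)).obj M, (p ≫ f) ⁻¹ᵁ O) :=
  (((Scheme.Modules.pullbackComp p f).hom.app M).app (p ⁻¹ᵁ (f ⁻¹ᵁ O))).hom.comp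
    (((Scheme.Modules.pullbackPushforwardAdjunction p).unit.app ((Scheme.Modules.pullback f).obj M)).app (f ⁻¹ᵁ O)).hom

lemma cmp_def (p : P ⟶ X) (O : Y.Opens) (y : Γ((Scheme.Modules.pullback f).obj M, f ⁻¹ᵁ O)) :
    cmp p O y = ((Scheme.Modules.pullbackComp p f).hom.app M).app (p ⁻¹ᵁ (f ⁻¹ᵁ O))
      (usec p ((Scheme.Modules.pullback f).obj M) (f ⁻¹ᵁ O) y) := rfl

lemma cmp_usec (p : P ⟶ X) (O : Y.Opens) (x : Γ(M, O)) :
    cmp p O (usec f M O x) = usec (p ≫ f) M O x :=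
  usec_comp p f M O x

lemma cmp_smul (p : P ⟶ X) (O : Y.Opens) (a : Γ(X, f ⁻¹ᵁ O))
    (y : Γ((Scheme.Modules.pullback f).obj M, f ⁻¹ᵁ O)) :
    cmp p O (a • y) = (show Γ(P, (p ≫ f) ⁻¹ᵁ O) from p.app (f ⁻¹ᵁ O) a) • cmp p O y :=
  (congrArg (fun t => ((Scheme.Modules.pullbackComp p f).hom.app M).app (p ⁻¹ᵁ (f ⁻¹ᵁ O)) t)
    (usec_smul p _ (f ⁻¹ᵁ O) a y)).trans
      (Scheme.Modules.Hom.app_smul ((Scheme.Modules.pullbackComp p f).hom.app M) _ _)

lemma cmp_res (p : P ⟶ X) {O O' : Y.Opens} (i : O' ≤ O) (y : Γ((Scheme.Modules.pullback f).obj M, f ⁻¹ᵁ O)) :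
    cmp p O' (res _ (f.preimage_mono i) y) = res _ ((p ≫ f).preimage_mono i) (cmp p O y) :=
  (congrArg (fun t => ((Scheme.Modules.pullbackComp p f).hom.app M).app (p ⁻¹ᵁ (f ⁻¹ᵁ O')) t)
    (usec_res p _ (f.preimage_mono i) y)).trans
      (app_res ((Scheme.Modules.pullbackComp p f).hom.app M) (p.preimage_mono (f.preimage_mono i)) _)

/-- Transport between the inverse images along equal morphisms. -/
noncomputable def tr {h h' : P ⟶ Y} (e : h = h') (O : Y.Opens) (le : h ⁻¹ᵁ O ≤ h' ⁻¹ᵁ O) :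
    Γ((Scheme.Modules.pullback h').obj M, h' ⁻¹ᵁ O) →+ Γ((Scheme.Modules.pullback h).obj M, h ⁻¹ᵁ O) :=
  (((Scheme.Modules.pullbackCongr e).inv.app M).app (h ⁻¹ᵁ O)).hom.comp
    (res ((Scheme.Modules.pullback h').obj M) le)

lemma tr_usec {h h' : P ⟶ Y} (e : h = h') (O : Y.Opens) (le : h ⁻¹ᵁ O ≤ h' ⁻¹ᵁ O) (x : Γ(M, O)) :
    tr e O le (usec h' M O x) = usec h M O x :=
  congr_inv_app e M O le x

lemma tr_smul {h h' : P ⟶ Y} (e : h = h') (O : Y.Opens) (le : h ⁻¹ᵁ O ≤ h' ⁻¹ᵁ O)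
    (a : Γ(P, h' ⁻¹ᵁ O)) (y : Γ((Scheme.Modules.pullback h').obj M, h' ⁻¹ᵁ O)) :
    tr e O le (a • y) = resR le a • tr e O le y := by
  subst e
  exact res_smul le a y

lemma tr_res {h h' : P ⟶ Y} (e : h = h') {O O' : Y.Opens} (i : O' ≤ O) (le : h ⁻¹ᵁ O ≤ h' ⁻¹ᵁ O)
    (le' : h ⁻¹ᵁ O' ≤ h' ⁻¹ᵁ O') (y : Γ((Scheme.Modules.pullback h').obj M, h' ⁻¹ᵁ O)) :
    tr e O' le' (res _ (h'.preimage_mono i) y) = res _ (h.preimage_mono i) (tr e O le y) := by
  subst e
  exact (res_res _ _ y).trans (res_res _ _ y).symm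

variable (p₁ p₂ : P ⟶ X) (hp : p₁ ≫ f = p₂ ≫ f)
  (hU : ∀ U : Y.Opens, p₁ ⁻¹ᵁ (f ⁻¹ᵁ U) = p₂ ⁻¹ᵁ (f ⁻¹ᵁ U))

/-- The two inverse images of a section on `X` agree. -/
def Equalizes (O : Y.Opens) (y : Γ((Scheme.Modules.pullback f).obj M, f ⁻¹ᵁ O)) : Prop :=
  cmp p₁ O y = tr hp O (hU O).le (cmp p₂ O y)

lemma equalizes_res {O O' : Y.Opens} (i : O' ≤ O) {y : Γ((Scheme.Modules.pullback f).obj M, f ⁻¹ᵁ O)}
    (h : Equalizes p₁ p₂ hp hU O y) :
    Equalizes p₁ p₂ hp hU O' (res _ (f.preimage_mono i) y) := by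
  unfold Equalizes at h ⊢
  rw [cmp_res p₁ i, cmp_res p₂ i, tr_res hp i (hU O).le, h]

/-- An equalizing section comes from `M`, locally. -/
theorem exists_of_frame
    (hex : ∀ (U : Y.Opens) (a : Γ(X, f ⁻¹ᵁ U)),
      p₁.app (f ⁻¹ᵁ U) a = (P.presheaf.map (eqToHom (hU U)).op) (p₂.app (f ⁻¹ᵁ U) a) → a ∈ Set.range (f.app U))
    {U W : Y.Opens} (hW : W ≤ U) {n : ℕ} {s : Fin n → Γ(M, U)} (hs : H23.Frame.IsFrame M s)
    (y : Γ((Scheme.Modules.pullback f).obj M, f ⁻¹ᵁ W)) (hy : Equalizes p₁ p₂ hp hU W y) :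
    ∃ z : Γ(M, W), usec f M W z = y := by
  obtain ⟨a, rfl⟩ := (PullFrame.isFrame_pullElt f hs (f ⁻¹ᵁ W) (f.preimage_mono hW)).2 y
  have hterm : ∀ i, res ((Scheme.Modules.pullback f).obj M) (f.preimage_mono hW) (pullElt f (s i)) =
      usec f M W (res M hW (s i)) := fun i => (usec_res f M hW (s i)).symm
  have hy' : comb ((Scheme.Modules.pullback f).obj M) (fun i => pullElt f (s i)) (f ⁻¹ᵁ W) (f.preimage_mono hW) a =
      ∑ i, a i • usec f M W (res M hW (s i)) :=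
    Finset.sum_congr rfl fun i _ => congrArg (a i • ·) (hterm i)
  have hA : cmp p₁ W (∑ i, a i • usec f M W (res M hW (s i))) =
      comb ((Scheme.Modules.pullback (p₁ ≫ f)).obj M) (fun i => pullElt (p₁ ≫ f) (s i)) ((p₁ ≫ f) ⁻¹ᵁ W)
        ((p₁ ≫ f).preimage_mono hW) (fun i => p₁.app _ (a i)) := by
    rw [map_sum]
    refine Finset.sum_congr rfl fun i _ => ?_
    rw [cmp_smul, cmp_usec]
    exact congrArg _ (usec_res (p₁ ≫ f) M hW (s i))
  have hB : tr hp W (hU W).le (cmp p₂ W (∑ i, a i • usec f M W (res M hW (s i)))) =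
      comb ((Scheme.Modules.pullback (p₁ ≫ f)).obj M) (fun i => pullElt (p₁ ≫ f) (s i)) ((p₁ ≫ f) ⁻¹ᵁ W)
        ((p₁ ≫ f).preimage_mono hW) (fun i => resR (hU W).le (p₂.app _ (a i))) := by
    rw [map_sum, map_sum]
    refine Finset.sum_congr rfl fun i _ => ?_
    rw [cmp_smul, tr_smul, cmp_usec, tr_usec]
    exact congrArg _ (usec_res (p₁ ≫ f) M hW (s i))
  rw [hy'] at hy
  have e : (fun i => p₁.app _ (a i)) = fun i => resR (hU W).le (p₂.app _ (a i)) :=
    (PullFrame.isFrame_pullElt (p₁ ≫ f) hs _ ((p₁ ≫ f).preimage_mono hW)).1 (hA.symm.trans (hy.trans hB))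
  choose c hc using fun i => hex W (a i) ((congrFun e i).trans (by
    rw [show (eqToHom (hU W)).op = (homOfLE (hU W).le).op from rfl]; rfl))
  refine ⟨comb M s W hW c, ?_⟩
  rw [comb, usec_sum]
  refine Finset.sum_congr rfl fun i _ => ?_
  rw [usec_smul, hc]
  exact congrArg (a i • ·) (usec_res f M hW (s i))

/-- Descent of homomorphisms. -/
theorem existsUnique_descend (hinj : ∀ U : Y.Opens, Function.Injective (f.app U))
    (hex : ∀ (U : Y.Opens) (a : Γ(X, f ⁻¹ᵁ U)),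
      p₁.app (f ⁻¹ᵁ U) a = (P.presheaf.map (eqToHom (hU U)).op) (p₂.app (f ⁻¹ᵁ U) a) → a ∈ Set.range (f.app U))
    (L : Y.Modules) (hM : FlatMod.IsFinLocFree M)
    (φ : (Scheme.Modules.pullback f).obj L ⟶ (Scheme.Modules.pullback f).obj M)
    (hφ : ((Scheme.Modules.pullbackComp p₁ f).app L).inv ≫
        (Scheme.Modules.pullback p₁).map φ ≫ ((Scheme.Modules.pullbackComp p₁ f).app M).hom =
      ((Scheme.Modules.pullbackCongr hp).app L).hom ≫
        ((Scheme.Modules.pullbackComp p₂ f).app L).inv ≫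
        (Scheme.Modules.pullback p₂).map φ ≫ ((Scheme.Modules.pullbackComp p₂ f).app M).hom ≫
        ((Scheme.Modules.pullbackCongr hp).app M).inv) :
    ∃! ψ : L ⟶ M, (Scheme.Modules.pullback f).map ψ = φ := by
  have heq : ∀ (O : Y.Opens) (x : Γ(L, O)),
      Equalizes p₁ p₂ hp hU O (φ.app (f ⁻¹ᵁ O) (usec f L O x)) := by
    intro O x
    have h := congrArg (fun t : (Scheme.Modules.pullback (p₁ ≫ f)).obj L ⟶ _ =>
      t.app ((p₁ ≫ f) ⁻¹ᵁ O) (usec (p₁ ≫ f) L O x)) hφ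
    unfold Equalizes
    refine Eq.trans ?_ (h.trans ?_)
    · show _ = ((Scheme.Modules.pullbackComp p₁ f).hom.app M).app (p₁ ⁻¹ᵁ (f ⁻¹ᵁ O))
        (((Scheme.Modules.pullback p₁).map φ).app (p₁ ⁻¹ᵁ (f ⁻¹ᵁ O))
          (((Scheme.Modules.pullbackComp p₁ f).inv.app L).app (p₁ ⁻¹ᵁ (f ⁻¹ᵁ O)) (usec (p₁ ≫ f) L O x)))
      exact (congrArg (fun t => ((Scheme.Modules.pullbackComp p₁ f).hom.app M).app (p₁ ⁻¹ᵁ (f ⁻¹ᵁ O)) t)
        ((congrArg (fun t => ((Scheme.Modules.pullback p₁).map φ).app (p₁ ⁻¹ᵁ (f ⁻¹ᵁ O)) t)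
          (comp_inv_usec p₁ f L O x)).trans (usec_map_hom p₁ φ _ _))).symm
    · let R := ((Scheme.Modules.pullbackComp p₂ f).app L).inv ≫
        (Scheme.Modules.pullback p₂).map φ ≫ ((Scheme.Modules.pullbackComp p₂ f).app M).hom
      show ((Scheme.Modules.pullbackCongr hp).inv.app M).app ((p₁ ≫ f) ⁻¹ᵁ O)
        (R.app ((p₁ ≫ f) ⁻¹ᵁ O)
          (((Scheme.Modules.pullbackCongr hp).hom.app L).app ((p₁ ≫ f) ⁻¹ᵁ O) (usec (p₁ ≫ f) L O x))) = _
      refine congrArg (fun t => ((Scheme.Modules.pullbackCongr hp).inv.app M).app ((p₁ ≫ f) ⁻¹ᵁ O) t) ?_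
      refine (congrArg (fun t => R.app ((p₁ ≫ f) ⁻¹ᵁ O) t) (congr_hom_app hp L O (hU O).le x)).trans ?_
      refine (app_res R (hU O).le (usec (p₂ ≫ f) L O x)).trans ?_
      refine congrArg (res _ (hU O).le) ?_
      exact congrArg (fun t => ((Scheme.Modules.pullbackComp p₂ f).hom.app M).app (p₂ ⁻¹ᵁ (f ⁻¹ᵁ O)) t)
        ((congrArg (fun t => ((Scheme.Modules.pullback p₂).map φ).app (p₂ ⁻¹ᵁ (f ⁻¹ᵁ O)) t)
          (comp_inv_usec p₂ f L O x)).trans (usec_map_hom p₂ φ _ _))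
  have hinj' := usec_injective f M hinj hM
  have hlift : ∀ (O : Y.Opens) (x : Γ(L, O)), ∃ z : Γ(M, O), usec f M O z = φ.app (f ⁻¹ᵁ O) (usec f L O x) := by
    intro O x
    choose U n hyU e using hM
    choose s hs using fun y => H23.Frame.exists_frame (e y).some
    choose z hz using fun y : O => exists_of_frame p₁ p₂ hp hU hex (inf_le_right : O ⊓ U y.1 ≤ U y.1) (hs y.1)
      (res _ (f.preimage_mono inf_le_left) (φ.app (f ⁻¹ᵁ O) (usec f L O x)))
      (equalizes_res p₁ p₂ hp hU inf_le_left (heq O x))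
    obtain ⟨t, ht, -⟩ := existsUnique_glue (M := M) (V := O) (fun y : O => O ⊓ U y.1) (fun y => inf_le_left)
      (fun p hp => ⟨⟨p, hp⟩, hp, hyU p⟩) z (fun i j => hinj' _ (by
        rw [usec_res, usec_res, hz, hz, res_res, res_res]))
    refine ⟨t, eq_of_locally _ _ fun p hp => ?_⟩
    refine ⟨f ⁻¹ᵁ (O ⊓ U (f p)), f.preimage_mono inf_le_left, ⟨hp, hyU (f p)⟩, ?_⟩
    rw [← usec_res f M (inf_le_left : O ⊓ U (f p) ≤ O), ht ⟨f p, hp⟩]
    exact hz ⟨f p, hp⟩
  choose ψ₀ hψ₀ using hlift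
  let ψ : L ⟶ M :=
    { val := PresheafOfModules.homMk
        { app := fun V => AddCommGrpCat.ofHom (AddMonoidHom.mk' (fun x : Γ(L, unop V) => ψ₀ (unop V) x)
            (fun x x' => hinj' _ (by
              refine (hψ₀ _ _).trans ?_
              show _ = ((Scheme.Modules.pullbackPushforwardAdjunction f).unit.app M).app (unop V) (_ + _)
              rw [map_add]
              show _ = usec f M _ _ + usec f M _ _
              rw [hψ₀, hψ₀, ← map_add]
              exact congrArg _ (map_add (((Scheme.Modules.pullbackPushforwardAdjunction f).unit.app L).app (unop V)).hom x x'))))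
          naturality := fun V W i => by
            ext x
            refine hinj' (unop W) ((hψ₀ _ _).trans ?_)
            show φ.app _ (usec f L (unop W) (res L i.unop.le x)) = usec f M (unop W) (res M i.unop.le (ψ₀ (unop V) x))
            rw [usec_res, usec_res, hψ₀, app_res] }
        (fun V c x => hinj' (unop V) ((hψ₀ _ _).trans (by
          show φ.app _ (usec f L (unop V) ((show Γ(Y, unop V) from c) • x)) =
            usec f M (unop V) ((show Γ(Y, unop V) from c) • ψ₀ (unop V) x)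
          rw [usec_smul, usec_smul, hψ₀, Scheme.Modules.Hom.app_smul]))) }
  refine ⟨ψ, ?_, fun ψ' hψ' => Scheme.Modules.hom_ext _ _ fun V => ?_⟩
  · apply ((Scheme.Modules.pullbackPushforwardAdjunction f).homEquiv _ _).injective
    refine Scheme.Modules.hom_ext _ _ fun V => ?_
    ext x
    show ((Scheme.Modules.pullback f).map ψ).app (f ⁻¹ᵁ V) (usec f L V x) = φ.app (f ⁻¹ᵁ V) (usec f L V x)
    rw [usec_map_hom]
    exact hψ₀ V x
  · ext x
    refine hinj' V ?_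
    show usec f M V (ψ'.app V x) = usec f M V (ψ₀ V x)
    rw [hψ₀, ← usec_map_hom, hψ']

end Groth.Agent.FlatMor3.HomDescent
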