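import Groth.Agent.S4887
import Groth.Agent.S1393
import Groth.Agent.FlatFun4.StalkDesc
import Groth.Agent.FlatFun4.FPPull
import Groth.Agent.FlatFun4.FlatPullAt
import Groth.Agent.QCoh.Support
import Groth.Agent.QCoh.AnnIdeal
import Groth.Agent.LimitsH94.LimQuot
import Groth.Agent.FittX.Crit
import Groth.Agent.FlatDvr.FibreStalk
import Groth.Agent.KFlatLib.Scheme.Exact
import Mathlib.AlgebraicGeometry.Morphisms.Proper

/-!
# The locus where a map to a flat module becomes an isomorphism

For finitely presented modules `F ⟶ G` with `G` flat over the base, bijectivity of a stalk can be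
tested on the fibre; the locus of such points is open and retrocompact, and for a proper morphism
the isomorphism condition on base changes is represented by a quasi-compact open of the base.
-/

set_option backward.isDefEq.respectTransparency false
set_option backward.isDefEq.respectTransparency.types false

universe u

open CategoryTheory CategoryTheory.Limits AlgebraicGeometry TopologicalSpace Opposite TensorProduct

namespace Groth.Agent.FlatMor3.IsoLocus

open Groth.Agent.FlatFun4

/-- A surjection onto a flat finitely presented module is injective if it is injective on the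
closed fibre. -/
theorem injective_of_flat_fibre {A R C M N : Type u} [CommRing A] [IsLocalRing A] [CommRing R]
    [IsLocalRing R] [Algebra A R] [IsLocalHom (algebraMap A R)] [CommRing C] [Algebra R C]
    [AddCommGroup M] [Module R M] [Module.Finite R M] [AddCommGroup N] [Module R N]
    [Module.FinitePresentation R N] [Module A N] [IsScalarTower A R N] [Module.Flat A N]
    (hC : Function.Surjective (algebraMap R C))
    (hker : RingHom.ker (algebraMap R C) = (IsLocalRing.maximalIdeal A).map (algebraMap A R))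
    (φ : M →ₗ[R] N) (hs : Function.Surjective φ) (hi : Function.Injective (φ.baseChange C)) :
    Function.Injective φ := by
  classical
  set I := (IsLocalRing.maximalIdeal A).map (algebraMap A R) with hI
  have hfg : φ.ker.FG := Module.FinitePresentation.fg_ker φ hs
  have key : φ.ker ≤ I • φ.ker := by
    intro y hy
    have h1 : (1 : C) ⊗ₜ[R] y = 0 :=
      hi (by rw [LinearMap.baseChange_tmul, LinearMap.mem_ker.mp hy, tmul_zero, map_zero])
    let e : (R ⧸ I) ≃ₐ[R] C := (Ideal.quotientEquivAlgOfEq R hker.symm).trans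
      (Ideal.quotientKerAlgEquivOfSurjective (f := Algebra.ofId R C) hC)
    have h2 : (1 : R ⧸ I) ⊗ₜ[R] y = 0 := by
      have := congrArg (TensorProduct.congr e.symm.toLinearEquiv (LinearEquiv.refl R M)) h1
      simpa using this
    have h3 : y ∈ I • (⊤ : Submodule R M) := by
      rw [← Submodule.Quotient.mk_eq_zero, ← quotTensorEquivQuotSMul_mk_one_tmul, h2, map_zero]
    rw [hI, Ideal.map, Submodule.span_smul_eq] at h3
    obtain ⟨n, a, g, ha⟩ : ∃ (n : ℕ) (a : Fin n → IsLocalRing.maximalIdeal A) (g : Fin n → M),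
        y = ∑ i, algebraMap A R (a i) • g i := by
      refine Submodule.set_smul_inductionOn (motive := fun y _ => ∃ (n : ℕ)
        (a : Fin n → IsLocalRing.maximalIdeal A) (g : Fin n → M),
        y = ∑ i, algebraMap A R (a i) • g i) y h3 ?_ ?_ ?_ ?_
      · rintro r m ⟨a, ha, rfl⟩ -
        exact ⟨1, fun _ => ⟨a, ha⟩, fun _ => m, by simp⟩
      · rintro r m - ⟨n, a, g, rfl⟩
        exact ⟨n, a, fun i => r • g i, by
          rw [Finset.smul_sum]; exact Finset.sum_congr rfl fun i _ => smul_comm _ _ _⟩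
      · rintro m₁ m₂ - - ⟨n, a, g, rfl⟩ ⟨n', a', g', rfl⟩
        exact ⟨n + n', Fin.append a a', Fin.append g g', by simp [Fin.sum_univ_add]⟩
      · exact ⟨0, finZeroElim, finZeroElim, by simp⟩
    have h0 : ∑ i, (a i : A) • φ (g i) = 0 := by
      have := LinearMap.mem_ker.mp hy
      rw [ha, map_sum] at this
      simpa [algebraMap_smul] using this
    obtain ⟨l, b, z, hz, hb⟩ := Module.Flat.isTrivialRelation_of_sum_smul_eq_zero h0
    choose w hw using fun j => hs (z j)
    have hk : ∀ i, g i - ∑ j, algebraMap A R (b i j) • w j ∈ φ.ker := fun i => by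
      rw [LinearMap.mem_ker, map_sub, map_sum, sub_eq_zero]
      refine (hz i).trans ?_
      simp [hw, algebraMap_smul]
    have hrew : y = ∑ i, algebraMap A R (a i) • (g i - ∑ j, algebraMap A R (b i j) • w j) := by
      simp only [smul_sub, Finset.sum_sub_distrib, ← ha, Finset.smul_sum, smul_smul, ← map_mul]
      rw [Finset.sum_comm]
      simp only [← Finset.sum_smul, ← map_sum, hb, map_zero, zero_smul, Finset.sum_const_zero,
        sub_zero]
    rw [hrew]
    exact Submodule.sum_mem _ fun i _ =>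
      Submodule.smul_mem_smul (Ideal.mem_map_of_mem _ (a i).2) (hk i)
  have hbot : φ.ker = ⊥ := by
    refine Submodule.eq_bot_of_le_smul_of_le_jacobson_bot _ _ hfg key ?_
    rw [IsLocalRing.jacobson_eq_maximalIdeal ⊥ bot_ne_top]
    exact Ideal.map_le_iff_le_comap.mpr fun x hx =>
      fun hu => hx (isUnit_of_map_unit (algebraMap A R) x hu)
  exact LinearMap.ker_eq_bot.mp hbot

variable {X S : Scheme.{u}}

theorem surjective_st_iff {F G : X.Modules} (u : F ⟶ G) (x : X) :
    Function.Surjective (st u x) ↔ x ∉ CohB1.support (cokernel u) := by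
  rw [show x ∉ CohB1.support (cokernel u) ↔ Subsingleton ((cokernel u).presheaf.stalk x) from not_not,
    show Subsingleton ((cokernel u).presheaf.stalk x) ↔
      Subsingleton ((DerSch.stalkFunctor X x).obj (cokernel u)) from Iff.rfl,
    ← ModuleCat.isZero_iff_subsingleton,
    (PreservesCokernel.iso (DerSch.stalkFunctor X x) u).isZero_iff,
    ← Preadditive.epi_iff_isZero_cokernel, ModuleCat.epi_iff_surjective]

theorem injective_st_iff {F G : X.Modules} (u : F ⟶ G) (x : X) :
    Function.Injective (st u x) ↔ x ∉ CohB1.support (kernel u) := by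
  rw [show x ∉ CohB1.support (kernel u) ↔ Subsingleton ((kernel u).presheaf.stalk x) from not_not,
    show Subsingleton ((kernel u).presheaf.stalk x) ↔
      Subsingleton ((DerSch.stalkFunctor X x).obj (kernel u)) from Iff.rfl,
    ← ModuleCat.isZero_iff_subsingleton,
    (PreservesKernel.iso (DerSch.stalkFunctor X x) u).isZero_iff,
    ← Preadditive.mono_iff_isZero_kernel, ModuleCat.mono_iff_injective]

/-- The complement of the support of a finitely presented module is retrocompact. -/
theorem isCompact_diff_support {M : X.Modules} (hM : CohB1.IsFP M) {W : X.Opens}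
    (hW : IsAffineOpen W) : IsCompact ((W : Set X) \ CohB1.support M) := by
  have := QCoh.finitePresentation_of_isFP hM hW
  obtain ⟨s, hs⟩ := FittX.ideal_fg (R := Γ(X, W)) (M := Γ(M, W)) 0
  have h : (W : Set X) \ CohB1.support M = ⋃ g ∈ s, (X.basicOpen g : Set X) := by
    ext y
    simp only [Set.mem_diff, Set.mem_iUnion, exists_prop, SetLike.mem_coe]
    refine ⟨fun ⟨hyW, hy⟩ => ?_, fun ⟨g, hg, hy⟩ => ?_⟩
    · have h1 : hW.primeIdealOf ⟨y, hyW⟩ ∉ Module.support Γ(X, W) Γ(M, W) := fun h =>
        hy ((QCoh.mem_moduleSupport_iff (QCoh.isQCoh_of_isFP hM) hW hyW).1 h)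
      rw [← FittX.zeroLocus_eq_support, ← hs, PrimeSpectrum.zeroLocus_span,
        PrimeSpectrum.mem_zeroLocus, Set.not_subset] at h1
      obtain ⟨g, hg, hgy⟩ := h1
      exact ⟨g, hg, (QCoh.mem_basicOpen_iff_notMem hW hyW g).2 hgy⟩
    · have hyW : y ∈ W := X.basicOpen_le g hy
      refine ⟨hyW, fun h => ?_⟩
      have h1 := (QCoh.mem_moduleSupport_iff (QCoh.isQCoh_of_isFP hM) hW hyW).2 h
      rw [← FittX.zeroLocus_eq_support, ← hs, PrimeSpectrum.zeroLocus_span,
        PrimeSpectrum.mem_zeroLocus] at h1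
      exact (QCoh.mem_basicOpen_iff_notMem hW hyW g).1 hy (h1 hg)
  rw [h]
  exact s.finite_toSet.isCompact_biUnion fun g _ => (hW.basicOpen g).isCompact

theorem bijective_of_fibre (f : X ⟶ S) {F G : X.Modules} (hF : CohB1.IsFP F) (hG : CohB1.IsFP G)
    (hGfl : FlatMod.IsFlatOver f G) (u : F ⟶ G) {s : S} (w : ↥(f.fiber s))
    (h : Function.Bijective (st ((Scheme.Modules.pullback (f.fiberι s)).map u) w)) :
    Function.Bijective (st u (f.fiberι s w)) := by
  set x := f.fiberι s w
  have hs : Function.Surjective (st u x) := by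
    have hC : CohB1.IsFP (cokernel u) := LimitsH94.isFP_cokernel (QCoh.isQCoh_of_isFP hF)
      (QCoh.isFT_of_isFP hF) (QCoh.isQCoh_of_isFP hG) hG u
    rw [surjective_st_iff]
    intro hx
    have h1 := (surjective_st_iff _ w).1 h.2
    apply h1
    have h2 : CohB1.support ((Scheme.Modules.pullback (f.fiberι s)).obj (cokernel u)) =
        CohB1.support (cokernel ((Scheme.Modules.pullback (f.fiberι s)).map u)) := by
      ext y
      exact not_congr (Equiv.subsingleton_congr ((DerSch.stalkFunctor _ y).mapIso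
        (PreservesCokernel.iso (Scheme.Modules.pullback (f.fiberι s)) u)).toLinearEquiv.toEquiv)
    rw [← h2, QCoh.support_pullback _ (QCoh.isQCoh_of_isFP hC) (QCoh.isFT_of_isFP hC)]
    exact hx
  refine ⟨?_, hs⟩
  letI : Algebra (X.presheaf.stalk x) ((f.fiber s).presheaf.stalk w) :=
    ((f.fiberι s).stalkMap w).hom.toAlgebra
  letI : Algebra (S.presheaf.stalk (f x)) (X.presheaf.stalk x) := (f.stalkMap x).hom.toAlgebra
  have : IsLocalHom (algebraMap (S.presheaf.stalk (f x)) (X.presheaf.stalk x)) :=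
    inferInstanceAs (IsLocalHom (f.stalkMap x).hom)
  letI := FlatMod.moduleStalkOver f G x
  have : IsScalarTower (S.presheaf.stalk (f x)) (X.presheaf.stalk x) (G.presheaf.stalk x) :=
    .of_algebraMap_smul fun _ _ => rfl
  have : Module.Flat (S.presheaf.stalk (f x)) (G.presheaf.stalk x) := hGfl x
  have := QCoh.finite_stalk_of_isFT (QCoh.isQCoh_of_isFP hF) (QCoh.isFT_of_isFP hF) x
  have := Groth.Agent.S1393.fp_stalk (QCoh.isQCoh_of_isFP hG) hG x
  have : Module.Finite (X.presheaf.stalk (f.fiberι s w))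
      ((DerSch.stalkFunctor X (f.fiberι s w)).obj F) := ‹Module.Finite _ (F.presheaf.stalk x)›
  have : Module.FinitePresentation (X.presheaf.stalk (f.fiberι s w))
      ((DerSch.stalkFunctor X (f.fiberι s w)).obj G) :=
    ‹Module.FinitePresentation _ (G.presheaf.stalk x)›
  letI : Module (S.presheaf.stalk (f x)) ((DerSch.stalkFunctor X (f.fiberι s w)).obj G) :=
    FlatMod.moduleStalkOver f G x
  have : Module.Flat (S.presheaf.stalk (f x)) ((DerSch.stalkFunctor X (f.fiberι s w)).obj G) :=
    hGfl x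
  have : IsScalarTower (S.presheaf.stalk (f x)) (X.presheaf.stalk x)
      ((DerSch.stalkFunctor X (f.fiberι s w)).obj G) := .of_algebraMap_smul fun _ _ => rfl
  exact injective_of_flat_fibre ((f.fiberι s).stalkMap_surjective w)
    (FlatDvr.ker_stalkMap_fiberι f w) (st u x) hs ((injective_pullback_iff _ w u).1 h.1)

/-- Bijectivity of stalks after pullback. -/
theorem isIso_pullback_of_bijective {Y : Scheme.{u}} (q : Y ⟶ X) {F G : X.Modules} (u : F ⟶ G)
    (h : ∀ y, Function.Bijective (st u (q y))) :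
    IsIso ((Scheme.Modules.pullback q).map u) := by
  have hb : ∀ y, Function.Bijective (st ((Scheme.Modules.pullback q).map u) y) := fun y => by
    letI := (q.stalkMap y).hom.toAlgebra
    refine ⟨(injective_pullback_iff q y u).2 ?_, (surjective_pullback_iff q y u).2 ?_⟩
    · exact ((LinearEquiv.ofBijective _ (h y)).baseChange
        (X.presheaf.stalk (q y)) (Y.presheaf.stalk y)).injective
    · exact ((LinearEquiv.ofBijective _ (h y)).baseChange
        (X.presheaf.stalk (q y)) (Y.presheaf.stalk y)).surjective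
  have := (Synt29.OmegaStalk.mono_iff_stalk ((Scheme.Modules.pullback q).map u)).2 fun y => (hb y).1
  have := (Synt29.OmegaStalk.epi_iff_stalk ((Scheme.Modules.pullback q).map u)).2 fun y => (hb y).2
  exact isIso_of_mono_of_epi _

theorem exists_isoLocus (f : X ⟶ S) [LocallyOfFinitePresentation f] {F G : X.Modules}
    (hF : CohB1.IsFP F) (hG : CohB1.IsFP G) (hGfl : FlatMod.IsFlatOver f G) (u : F ⟶ G) :
    ∃ V : X.Opens, (∀ x, x ∈ V ↔ Function.Bijective (st u x)) ∧
      ∀ W : X.Opens, IsAffineOpen W → IsCompact ((W : Set X) ∩ V) := by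
  classical
  have hC : CohB1.IsFP (cokernel u) := LimitsH94.isFP_cokernel (QCoh.isQCoh_of_isFP hF)
    (QCoh.isFT_of_isFP hF) (QCoh.isQCoh_of_isFP hG) hG u
  let V₁ : X.Opens := ⟨(CohB1.support (cokernel u))ᶜ,
    (QCoh.isClosed_support_of_isFT (QCoh.isQCoh_of_isFP hC) (QCoh.isFT_of_isFP hC)).isOpen_compl⟩
  let u₁ := (Scheme.Modules.pullback V₁.ι).map u
  have hmem : ∀ y : (V₁ : Scheme.{u}), Function.Surjective (st u (V₁.ι y)) := fun y =>
    (surjective_st_iff u _).2 y.2
  have : Epi u₁ := (Synt29.OmegaStalk.epi_iff_stalk u₁).2 fun y =>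
    (surjective_stalk_iff V₁.ι y u).2 (hmem y)
  have hF₁ := FlatFun4.isFP_pullback V₁.ι hF
  have hG₁ := FlatFun4.isFP_pullback V₁.ι hG
  have := QCoh.isQCoh_of_isFP hF₁
  have := QCoh.isQCoh_of_isFP hG₁
  have hK : CohB1.IsFP (kernel u₁) := Groth.Agent.S4887.result (V₁.ι ≫ f) _ _ hF₁ hG₁
    (fun y => FlatFun4.isFlatOverAt_comp V₁.ι f G y (hGfl _)) u₁
  let V₂ : (V₁ : Scheme.{u}).Opens := ⟨(CohB1.support (kernel u₁))ᶜ,
    (QCoh.isClosed_support_of_isFT (QCoh.isQCoh_of_isFP hK) (QCoh.isFT_of_isFP hK)).isOpen_compl⟩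
  refine ⟨V₁.ι ''ᵁ V₂, fun x => ⟨?_, fun hx => ?_⟩, fun W hW => ?_⟩
  · rintro ⟨y, hy, rfl⟩
    exact ⟨(injective_stalk_iff V₁.ι y u).1 ((injective_st_iff u₁ y).2 hy), hmem y⟩
  · have hx₁ : x ∈ V₁ := (surjective_st_iff u x).1 hx.2
    exact ⟨⟨x, hx₁⟩, (injective_st_iff u₁ _).1 ((injective_stalk_iff V₁.ι _ u).2 hx.1), rfl⟩
  · have hcov : IsCompact ((W : Set X) ∩ V₁) := by
      have := isCompact_diff_support hC hW
      rwa [Set.diff_eq] at this
    have hpre : IsCompact ((V₁.ι ⁻¹ᵁ W : (V₁ : Scheme.{u}).Opens) : Set (V₁ : Scheme.{u})) := by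
      rw [V₁.ι.isOpenEmbedding.isEmbedding.isCompact_iff]
      convert hcov using 1
      rw [TopologicalSpace.Opens.map_coe, Set.image_preimage_eq_inter_range, Scheme.Opens.range_ι]
    obtain ⟨s, hs, hU'⟩ := isCompact_iff_finite_and_eq_biUnion_affineOpens.1 hpre
    have hU : ((V₁.ι ⁻¹ᵁ W : (V₁ : Scheme.{u}).Opens) : Set (V₁ : Scheme.{u})) =
        ⋃ T ∈ s, (T.1 : Set (V₁ : Scheme.{u})) := by rw [hU']; simp
    have heq : (W : Set X) ∩ (V₁.ι ''ᵁ V₂) =
        V₁.ι '' (⋃ T ∈ s, ((T.1 : Set (V₁ : Scheme.{u})) \ CohB1.support (kernel u₁))) := by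
      have h3 : (⋃ T ∈ s, ((T.1 : Set (V₁ : Scheme.{u})) \ CohB1.support (kernel u₁))) =
          (V₁.ι ⁻¹ᵁ W : Set (V₁ : Scheme.{u})) ∩ V₂ := by
        rw [hU, Set.iUnion₂_inter]; rfl
      rw [h3]
      ext y
      refine ⟨?_, ?_⟩
      · rintro ⟨hy, z, hz, rfl⟩
        exact ⟨z, ⟨hy, hz⟩, rfl⟩
      · rintro ⟨z, ⟨hzW, hz⟩, rfl⟩
        exact ⟨hzW, z, hz, rfl⟩
    rw [heq]
    exact (hs.isCompact_biUnion fun T _ => isCompact_diff_support hK T.2).image V₁.ι.continuous

theorem isCompact_of_isConstructible {Y : Scheme.{u}} [CompactSpace Y] [QuasiSeparatedSpace Y]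
    {s : Set Y} (hs : Topology.IsConstructible s) : IsCompact s := by
  have : Nonempty Y.affineOpens := ⟨⟨⊥, isAffineOpen_bot Y⟩⟩
  have hb : TopologicalSpace.IsTopologicalBasis
      (Set.range fun A : Y.affineOpens => ((A.1 : Y.Opens) : Set Y)) := by
    have h := Y.isBasis_affineOpens
    rw [TopologicalSpace.Opens.IsBasis] at h
    convert h using 1
    ext t
    simp
  refine Topology.IsConstructible.induction_of_isTopologicalBasis (P := fun s _ => IsCompact s) _ hb
    (fun A => A.2.isCompact) (fun A t ht => ?_) (fun s _ t _ hs ht => hs.union ht) s hs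
  exact A.2.isCompact.diff (isOpen_biUnion fun B _ => B.1.2)

/-- The image of the complement of a retrocompact open has retrocompact complement. -/
theorem isCompact_inter_of_retrocompact (f : X ⟶ S) [QuasiCompact f] [QuasiSeparated f]
    [LocallyOfFinitePresentation f] (V : X.Opens)
    (hVc : ∀ W : X.Opens, IsAffineOpen W → IsCompact ((W : Set X) ∩ V))
    {W : S.Opens} (hW : IsAffineOpen W) : IsCompact ((W : Set S) ∩ (f '' (V : Set X)ᶜ)ᶜ) := by
  let g := f ∣_ W
  let V' : (f ⁻¹ᵁ W : Scheme.{u}).Opens := (f ⁻¹ᵁ W).ι ⁻¹ᵁ V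
  have : IsAffine W := hW
  have : CompactSpace (f ⁻¹ᵁ W : Scheme.{u}) := QuasiCompact.compactSpace_of_compactSpace g
  have : QuasiSeparatedSpace (f ⁻¹ᵁ W : Scheme.{u}) := quasiSeparatedSpace_of_quasiSeparated g
  have hV' : IsCompact (V' : Set (f ⁻¹ᵁ W : Scheme.{u})) := by
    rw [(f ⁻¹ᵁ W).ι.isOpenEmbedding.isEmbedding.isCompact_iff, TopologicalSpace.Opens.map_coe,
      Set.image_preimage_eq_inter_range, Scheme.Opens.range_ι]
    obtain ⟨s, hs, hU'⟩ := isCompact_iff_finite_and_eq_biUnion_affineOpens.1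
      (f.isCompact_preimage hW.isCompact)
    have hU : ((f ⁻¹ᵁ W : X.Opens) : Set X) = ⋃ T ∈ s, (T.1 : Set X) := by rw [hU']; simp
    rw [hU, Set.inter_comm, Set.iUnion₂_inter]
    exact hs.isCompact_biUnion fun T _ => hVc T.1 T.2
  have hcons : Topology.IsConstructible (g '' (V' : Set (f ⁻¹ᵁ W : Scheme.{u}))ᶜ)ᶜ :=
    (g.isConstructible_image (hV'.isConstructible V'.isOpen).compl).compl
  have := (isCompact_of_isConstructible hcons).image W.ι.continuous
  convert this using 1
  ext s
  simp only [Set.mem_inter_iff, Set.mem_compl_iff, Set.mem_image, SetLike.mem_coe, not_exists,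
    not_and]
  refine ⟨fun ⟨hsW, hs⟩ => ⟨⟨s, hsW⟩, fun z hz hgz => ?_, rfl⟩, ?_⟩
  · exact hs z.1 hz ((morphismRestrict_base_coe f W z).symm.trans (congrArg Subtype.val hgz))
  · rintro ⟨w, hw, rfl⟩
    refine ⟨w.2, fun z hz hfz => hw ⟨z, show f z ∈ W from hfz ▸ w.2⟩ hz ?_⟩
    exact Subtype.ext ((morphismRestrict_base_coe f W _).trans hfz)

/-- Isomorphism after every base change is an open quasi-compact condition on a proper base. -/
theorem exists_isoLocus_proper (f : X ⟶ S) [IsProper f] [LocallyOfFinitePresentation f]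
    {F G : X.Modules} (hF : CohB1.IsFP F) (hG : CohB1.IsFP G) (hGfl : FlatMod.IsFlatOver f G)
    (u : F ⟶ G) :
    ∃ U : S.Opens, QuasiCompact U.ι ∧
      ∀ (T : Scheme.{u}) (t : T ⟶ S),
        IsIso ((Scheme.Modules.pullback (pullback.fst f t)).map u) ↔
          Set.range t.base ⊆ (U : Set S) := by
  obtain ⟨V, hV, hVc⟩ := exists_isoLocus f hF hG hGfl u
  let U : S.Opens := ⟨(f '' (V : Set X)ᶜ)ᶜ, (f.isClosedMap _ V.isOpen.isClosed_compl).isOpen_compl⟩
  have hU : ∀ s, s ∈ U ↔ ∀ x, f x = s → x ∈ V := by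
    intro s
    show s ∈ (f '' (V : Set X)ᶜ)ᶜ ↔ _
    simp only [Set.mem_compl_iff, Set.mem_image, not_exists, not_and, SetLike.mem_coe]
    exact ⟨fun h x hx => by_contra fun hxV => h x hxV hx, fun h x hxV hx => hxV (h x hx)⟩
  refine ⟨U, quasiCompact_iff_forall_isAffineOpen.2 fun W hW => ?_, fun T t => ⟨fun hiso => ?_,
    fun ht => isIso_pullback_of_bijective _ u fun y => ?_⟩⟩
  · rw [U.ι.isOpenEmbedding.isEmbedding.isCompact_iff, TopologicalSpace.Opens.map_coe,
      Set.image_preimage_eq_inter_range, Scheme.Opens.range_ι]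
    exact isCompact_inter_of_retrocompact f V hVc hW
  · rintro _ ⟨a, rfl⟩
    rw [SetLike.mem_coe, hU]
    intro x hx
    let s := t a
    let p₀ := f.fiberι s
    let ρ := Spec.map (t.residueFieldMap a)
    let P := pullback (f.fiberToSpecResidueField s) ρ
    let p₁ : P ⟶ f.fiber s := pullback.fst _ _
    let p₂ : P ⟶ pullback f t := pullback.lift (p₁ ≫ p₀)
      (pullback.snd _ _ ≫ T.fromSpecResidueField a) (by
        rw [Category.assoc, Category.assoc, Scheme.Hom.fiber_fac,
          ← Scheme.Hom.SpecMap_residueFieldMap_fromSpecResidueField t a]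
        exact pullback.condition_assoc _)
    have h2 : IsIso ((Scheme.Modules.pullback (p₁ ≫ p₀)).map u) := by
      rw [← show p₂ ≫ pullback.fst f t = p₁ ≫ p₀ from pullback.lift_fst _ _ _]
      exact (NatIso.isIso_map_iff (Scheme.Modules.pullbackComp p₂ (pullback.fst f t)) u).1
        (by dsimp only [Functor.comp_map]; infer_instance)
    have h3 : IsIso ((Scheme.Modules.pullback p₁).map ((Scheme.Modules.pullback p₀).map u)) :=
      (NatIso.isIso_map_iff (Scheme.Modules.pullbackComp p₁ p₀) u).2 h2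
    have : Surjective ρ := ⟨fun y => ⟨default, Subsingleton.elim _ _⟩⟩
    have : Flat ρ := by
      rw [HasRingHomProperty.Spec_iff (P := @Flat)]
      letI := (t.residueFieldMap a).hom.toAlgebra
      exact RingHom.flat_algebraMap_iff.mpr inferInstance
    have h4 : IsIso ((Scheme.Modules.pullback p₀).map u) :=
      isIso_of_family _ (fun _ : Unit => p₁)
        (fun w => ⟨(), (pullback.fst (f.fiberToSpecResidueField s) ρ).surjective w⟩) fun _ => h3
    let w : ↥(f.fiber s) := (f.fiberHomeo s).symm ⟨x, hx⟩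
    rw [hV, show x = p₀ w from (f.fiberι_fiberHomeo_symm s ⟨x, hx⟩).symm]
    refine bijective_of_fibre f hF hG hGfl u w ?_
    exact ConcreteCategory.bijective_of_isIso
      ((DerSch.stalkFunctor _ w).map ((Scheme.Modules.pullback p₀).map u))
  · refine (hV _).1 ((hU (t (pullback.snd f t y))).1 (ht ⟨_, rfl⟩) _ ?_)
    rw [← Scheme.Hom.comp_apply, pullback.condition]
    rfl

end Groth.Agent.FlatMor3.IsoLocus
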