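import Groth.Agent.FlatMor3.WeilRep
import Groth.Agent.Grass60.FiniteSet
import Groth.Prelude.Def_Mor2

/-!
Representability of `Mor_S(Z, X)` for finite locally free `Z/S` when finitely many points of a fibre of
`X/S` lie in an affine open.
-/

set_option backward.isDefEq.respectTransparency false
set_option backward.isDefEq.respectTransparency.types false

universe u

open CategoryTheory CategoryTheory.Limits AlgebraicGeometry Opposite

namespace Groth.Agent.FlatMor3.MorSRep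

variable {S Z X : Scheme.{u}} (g : Z ⟶ S) (f : X ⟶ S)

/-- A point of `Mor_S(Z, X)` with values in a scheme, together with the structure morphism. -/
structure Pt (T : Scheme.{u}) where
  str : T ⟶ S
  b : pullback str g ⟶ X
  w : b ≫ f = pullback.snd str g ≫ g

variable {g f}

/-- Evaluation of a point. -/
noncomputable def Pt.ev {T Q : Scheme.{u}} (x : Pt g f T) (p : Q ⟶ T) (q : Q ⟶ Z) (h : p ≫ x.str = q ≫ g) :
    Q ⟶ X := pullback.lift p q h ≫ x.b

theorem Pt.ev_w {T Q : Scheme.{u}} (x : Pt g f T) (p : Q ⟶ T) (q : Q ⟶ Z) (h : p ≫ x.str = q ≫ g) :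
    x.ev p q h ≫ f = q ≫ g := by
  simp only [Pt.ev, Category.assoc, x.w, pullback.lift_snd_assoc]

theorem Pt.comp_ev {T Q Q' : Scheme.{u}} (x : Pt g f T) (r : Q' ⟶ Q) (p : Q ⟶ T) (q : Q ⟶ Z)
    (h : p ≫ x.str = q ≫ g) :
    r ≫ x.ev p q h = x.ev (r ≫ p) (r ≫ q) (by rw [Category.assoc, h, Category.assoc]) := by
  rw [Pt.ev, Pt.ev, ← Category.assoc]
  congr 1
  apply pullback.hom_ext <;> simp

theorem Pt.ev_congr {T Q : Scheme.{u}} {x y : Pt g f T} (e : x = y) {p p' : Q ⟶ T} {q q' : Q ⟶ Z}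
    (ep : p = p') (eq : q = q') (h : p ≫ x.str = q ≫ g) :
    x.ev p q h = y.ev p' q' (by rw [← ep, ← eq, ← e]; exact h) := by
  subst e; subst ep; subst eq; rfl

theorem Pt.ev_self {T : Scheme.{u}} (x : Pt g f T) :
    x.ev (pullback.fst x.str g) (pullback.snd x.str g) pullback.condition = x.b := by
  rw [Pt.ev]
  conv_rhs => rw [← Category.id_comp x.b]
  congr 1
  apply pullback.hom_ext <;> simp

theorem Pt.ext' {T : Scheme.{u}} {x y : Pt g f T} (hs : x.str = y.str)
    (h : ∀ {Q : Scheme.{u}} (p : Q ⟶ T) (q : Q ⟶ Z) (w : p ≫ x.str = q ≫ g) (w' : p ≫ y.str = q ≫ g),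
      x.ev p q w = y.ev p q w') : x = y := by
  obtain ⟨a, b, w⟩ := x
  obtain ⟨a', b', w'⟩ := y
  obtain rfl : a = a' := hs
  have := h (pullback.fst a g) (pullback.snd a g) pullback.condition pullback.condition
  rw [Pt.ev_self ⟨a, b, w⟩, Pt.ev_self ⟨a, b', w'⟩] at this
  obtain rfl : b = b' := this
  rfl

/-- Pulling back a point. -/
noncomputable def Pt.pull {T T' : Scheme.{u}} (h : T' ⟶ T) (x : Pt g f T) : Pt g f T' :=
  ⟨h ≫ x.str, x.ev (pullback.fst _ g ≫ h) (pullback.snd _ g) (by rw [Category.assoc]; exact pullback.condition),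
    x.ev_w _ _ _⟩

theorem Pt.pull_str {T T' : Scheme.{u}} (h : T' ⟶ T) (x : Pt g f T) : (x.pull h).str = h ≫ x.str := rfl

theorem Pt.ev_pull {T T' Q : Scheme.{u}} (h : T' ⟶ T) (x : Pt g f T) (p : Q ⟶ T') (q : Q ⟶ Z)
    (w : p ≫ (x.pull h).str = q ≫ g) :
    (x.pull h).ev p q w = x.ev (p ≫ h) q (by rw [Category.assoc]; exact w) := by
  refine Eq.trans (Pt.comp_ev x (pullback.lift p q w) _ _ _) (Pt.ev_congr rfl ?_ ?_ _)
  · exact (Category.assoc _ _ _).symm.trans (congrArg (· ≫ h) (pullback.lift_fst _ _ _))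
  · exact pullback.lift_snd _ _ _

theorem Pt.pull_id {T : Scheme.{u}} (x : Pt g f T) : x.pull (𝟙 T) = x :=
  Pt.ext' (Category.id_comp _) fun p q w w' =>
    (Pt.ev_pull _ x p q w).trans (Pt.ev_congr rfl (Category.comp_id p) rfl _)

theorem Pt.pull_comp {T T' T'' : Scheme.{u}} (h : T'' ⟶ T') (h' : T' ⟶ T) (x : Pt g f T) :
    x.pull (h ≫ h') = (x.pull h').pull h :=
  Pt.ext' (Category.assoc _ _ _) fun p q w w' => by
    rw [Pt.ev_pull, Pt.ev_pull, Pt.ev_pull]
    exact Pt.ev_congr rfl (Category.assoc _ _ _).symm rfl _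

variable (g f)

/-- The presheaf of points on all schemes. -/
noncomputable def presheaf : Scheme.{u}ᵒᵖ ⥤ Type u where
  obj T := Pt g f T.unop
  map h := ↾fun x => x.pull h.unop
  map_id T := ConcreteCategory.hom_ext _ _ fun x => x.pull_id
  map_comp h h' := ConcreteCategory.hom_ext _ _ fun x => x.pull_comp h'.unop h.unop

theorem isSheaf_presheaf : Presieve.IsSheaf Scheme.zariskiTopology (presheaf g f) := by
  rw [Precoverage.isSheaf_toGrothendieck_iff_of_isStableUnderBaseChange]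
  rintro Y₀ R hR x hx
  obtain ⟨(𝓤 : Y₀.OpenCover), rfl⟩ := Scheme.exists_cover_of_mem_pretopology hR
  let xi : ∀ i, Pt g f (𝓤.X i) := fun i => x (𝓤.f i) (.mk i)
  have hcomp : ∀ (i j : 𝓤.I₀) {W : Scheme.{u}} (a : W ⟶ 𝓤.X i) (b : W ⟶ 𝓤.X j),
      a ≫ 𝓤.f i = b ≫ 𝓤.f j → (xi i).pull a = (xi j).pull b :=
    fun i j W a b h => hx a b (.mk i) (.mk j) h
  obtain ⟨p, hp⟩ : ∃ p : Y₀ ⟶ S, ∀ i, 𝓤.f i ≫ p = (xi i).str :=
    ⟨Scheme.Cover.glueMorphisms 𝓤 (fun i => (xi i).str) fun i j =>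
      congrArg Pt.str (hcomp i j _ _ pullback.condition), fun i => Scheme.Cover.ι_glueMorphisms 𝓤 _ _ i⟩
  let 𝒱 := 𝓤.pullback₁ (pullback.fst p g)
  let bi : ∀ i, 𝒱.X i ⟶ X := fun i =>
    (xi i).ev (pullback.snd (pullback.fst p g) (𝓤.f i)) (pullback.fst (pullback.fst p g) (𝓤.f i) ≫ pullback.snd p g)
      (by rw [← hp i, ← pullback.condition_assoc, pullback.condition, Category.assoc])
  have hbi : ∀ i j, pullback.fst (𝒱.f i) (𝒱.f j) ≫ bi i = pullback.snd (𝒱.f i) (𝒱.f j) ≫ bi j := by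
    intro i j
    let a := pullback.fst (𝒱.f i) (𝒱.f j) ≫ pullback.snd (pullback.fst p g) (𝓤.f i)
    let b := pullback.snd (𝒱.f i) (𝒱.f j) ≫ pullback.snd (pullback.fst p g) (𝓤.f j)
    have hab : a ≫ 𝓤.f i = b ≫ 𝓤.f j := by
      show (_ ≫ _) ≫ _ = (_ ≫ _) ≫ _
      rw [Category.assoc, Category.assoc, ← pullback.condition, ← pullback.condition]
      exact congrArg (· ≫ pullback.fst p g) (pullback.condition (f := 𝒱.f i) (g := 𝒱.f j)) |>.trans (Category.assoc _ _ _) |> (Category.assoc _ _ _).symm.trans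
    have e := hcomp i j a b hab
    let q : pullback (𝒱.f i) (𝒱.f j) ⟶ Z := (pullback.fst (𝒱.f i) (𝒱.f j) ≫ 𝒱.f i) ≫ pullback.snd p g
    have w : 𝟙 _ ≫ ((xi i).pull a).str = q ≫ g := by
      show 𝟙 _ ≫ (_ ≫ _) ≫ (xi i).str = _
      rw [Category.id_comp, ← hp i, Category.assoc, ← pullback.condition_assoc, pullback.condition]
      simp only [q, Category.assoc]
      rfl
    have h1 := Pt.ev_congr e rfl rfl w
    rw [Pt.ev_pull, Pt.ev_pull] at h1
    rw [Pt.comp_ev, Pt.comp_ev]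
    refine ((Pt.ev_congr rfl (Category.id_comp a).symm ?_ _).trans h1).trans (Pt.ev_congr rfl (Category.id_comp b) ?_ _)
    · exact (Category.assoc _ _ _).symm
    · simp only [q, pullback.condition (f := 𝒱.f i) (g := 𝒱.f j)]
      exact Category.assoc _ _ _
  obtain ⟨bY, hbY⟩ : ∃ bY : pullback p g ⟶ X, ∀ i, 𝒱.f i ≫ bY = bi i :=
    ⟨Scheme.Cover.glueMorphisms 𝒱 bi hbi, fun i => Scheme.Cover.ι_glueMorphisms 𝒱 _ hbi i⟩
  have hw : bY ≫ f = pullback.snd p g ≫ g := by
    refine Scheme.Cover.hom_ext 𝒱 _ _ fun i => ?_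
    rw [reassoc_of% hbY i, Pt.ev_w]
    exact Category.assoc _ _ _
  refine ⟨⟨p, bY, hw⟩, ?_, fun z hz => ?_⟩
  · rintro W e ⟨i⟩
    show (⟨p, bY, hw⟩ : Pt g f Y₀).pull (𝓤.f i) = xi i
    refine Pt.ext' (hp i) fun {Q} a q w w' => ?_
    rw [Pt.ev_pull]
    let l : Q ⟶ 𝒱.X i := pullback.lift (pullback.lift (a ≫ 𝓤.f i) q ((Category.assoc _ _ _).trans w)) a
      (pullback.lift_fst _ _ _)
    show pullback.lift _ _ _ ≫ bY = _
    have hl : l ≫ 𝒱.f i = pullback.lift (a ≫ 𝓤.f i) q ((Category.assoc _ _ _).trans w) := pullback.lift_fst _ _ _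
    rw [← hl, Category.assoc, hbY, Pt.comp_ev]
    refine Pt.ev_congr rfl (pullback.lift_snd _ _ _) ?_ _
    exact (Category.assoc _ _ _).symm.trans ((congrArg (· ≫ pullback.snd p g) hl).trans (pullback.lift_snd _ _ _))
  · have hzs : z.str = p := Scheme.Cover.hom_ext 𝓤 _ _ fun i => by
      rw [hp]
      exact congrArg Pt.str (hz (𝓤.f i) (.mk i))
    obtain ⟨p', b', w'⟩ := z
    obtain rfl : p' = p := hzs
    obtain rfl : b' = bY := Scheme.Cover.hom_ext 𝒱 _ _ fun i => by
      have e : (⟨p', b', w'⟩ : Pt g f Y₀).pull (𝓤.f i) = xi i := hz (𝓤.f i) (.mk i)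
      have h1 := Pt.ev_congr e (p := pullback.snd (pullback.fst p' g) (𝓤.f i))
        (q := pullback.fst (pullback.fst p' g) (𝓤.f i) ≫ pullback.snd p' g) rfl rfl (by
          show _ ≫ 𝓤.f i ≫ p' = _
          rw [← pullback.condition_assoc, pullback.condition, Category.assoc])
      rw [Pt.ev_pull] at h1
      rw [hbY]
      refine Eq.trans ?_ h1
      show _ ≫ b' = pullback.lift _ _ _ ≫ b'
      congr 1
      apply pullback.hom_ext
      · rw [pullback.lift_fst]; exact pullback.condition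
      · rw [pullback.lift_snd]; rfl
    rfl

variable {g f}

/-- A chart: an affine-type piece representing the points which land in `U` over `V`. -/
structure Chart (g : Z ⟶ S) (f : X ⟶ S) where
  V : S.Opens
  U : X.Opens
  W : Scheme.{u}
  univ : Pt g f W
  str_mem : ∀ w, univ.str w ∈ V
  b_mem : ∀ z, univ.b z ∈ U
  exists_unique : ∀ {T : Scheme.{u}} (x : Pt g f T), (∀ t, x.str t ∈ V) → (∀ z, x.b z ∈ U) →
    ∃! m : T ⟶ W, univ.pull m = x

theorem isPullback_lift {T T' : Scheme.{u}} (h : T' ⟶ T) (s : T ⟶ S) :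
    IsPullback (pullback.lift (pullback.fst (h ≫ s) g ≫ h) (pullback.snd (h ≫ s) g)
      ((Category.assoc _ _ _).trans pullback.condition)) (pullback.fst (h ≫ s) g) (pullback.fst s g) h :=
  IsPullback.of_right (by rw [pullback.lift_snd]; exact (IsPullback.of_hasPullback (h ≫ s) g).flip)
    (pullback.lift_fst _ _ _) (IsPullback.of_hasPullback s g).flip

namespace Chart

variable (c : Chart g f)

/-- The locus where a point lies in the chart. -/
noncomputable def locus {T : Scheme.{u}} (x : Pt g f T) [IsFinite g] : T.Opens :=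
  x.str ⁻¹ᵁ c.V ⊓ ⟨((pullback.fst x.str g).base '' (x.b.base ⁻¹' (c.U : Set X)ᶜ))ᶜ,
    ((pullback.fst x.str g).isClosedMap _ (c.U.2.isClosed_compl.preimage x.b.continuous)).isOpen_compl⟩

theorem mem_locus [IsFinite g] {T : Scheme.{u}} (x : Pt g f T) (t : T) :
    t ∈ c.locus x ↔ x.str t ∈ c.V ∧ ∀ z, pullback.fst x.str g z = t → x.b z ∈ c.U := by
  show x.str t ∈ c.V ∧ t ∉ (pullback.fst x.str g).base '' (x.b.base ⁻¹' (c.U : Set X)ᶜ) ↔ _
  refine and_congr_right fun _ => ?_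
  constructor
  · intro h z hz
    by_contra hc
    exact h ⟨z, hc, hz⟩
  · rintro h ⟨z, hz, hz'⟩
    exact hz (h z hz')

theorem good_pull_iff [IsFinite g] {T T' : Scheme.{u}} (h : T' ⟶ T) (x : Pt g f T) :
    ((∀ t, (x.pull h).str t ∈ c.V) ∧ ∀ z, (x.pull h).b z ∈ c.U) ↔ ∀ t, h t ∈ c.locus x := by
  let L := pullback.lift (pullback.fst (h ≫ x.str) g ≫ h) (pullback.snd (h ≫ x.str) g)
    ((Category.assoc _ _ _).trans pullback.condition)
  have hb : ∀ z, (x.pull h).b z = x.b (L z) := fun z => rfl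
  constructor
  · rintro ⟨h1, h2⟩ t
    rw [mem_locus]
    refine ⟨h1 t, fun z hz => ?_⟩
    obtain ⟨z', hz', -⟩ := Scheme.exists_preimage_of_isPullback (isPullback_lift (g := g) h x.str) z t hz
    exact hz' ▸ h2 z'
  · intro hl
    refine ⟨fun t => ((c.mem_locus x _).1 (hl t)).1, fun z => ?_⟩
    refine ((c.mem_locus x _).1 (hl (pullback.fst (h ≫ x.str) g z))).2 (L z) ?_
    exact congrArg (fun k : pullback (h ≫ x.str) g ⟶ T => k z) (pullback.lift_fst _ _ _)

theorem pull_good {T : Scheme.{u}} (m : T ⟶ c.W) :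
    (∀ t, (c.univ.pull m).str t ∈ c.V) ∧ ∀ z, (c.univ.pull m).b z ∈ c.U :=
  ⟨fun t => c.str_mem _, fun z => c.b_mem _⟩

theorem hom_ext {T : Scheme.{u}} {m m' : T ⟶ c.W} (h : c.univ.pull m = c.univ.pull m') : m = m' :=
  (c.exists_unique (c.univ.pull m') (c.pull_good m').1 (c.pull_good m').2).unique h rfl

theorem exists_locus_map [IsFinite g] {T : Scheme.{u}} (x : Pt g f T) :
    ∃ m : (c.locus x).toScheme ⟶ c.W, c.univ.pull m = x.pull (c.locus x).ι := by
  have := (c.good_pull_iff (c.locus x).ι x).2 fun t => t.2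
  exact (c.exists_unique _ this.1 this.2).exists

/-- The map from a chart to the presheaf of points. -/
noncomputable def toPresheaf : yoneda.obj c.W ⟶ presheaf g f := yonedaEquiv.symm c.univ

theorem isOpenImmersion_toPresheaf [IsFinite g] : IsOpenImmersion.presheaf c.toPresheaf := by
  refine MorphismProperty.relative.of_exists fun T t => ?_
  let x : Pt g f T := yonedaEquiv t
  obtain ⟨m, hm⟩ := c.exists_locus_map x
  have ht : ∀ {W : Scheme.{u}} (h : W ⟶ T), t.app (op W) h = x.pull h := fun {W} h => by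
    obtain ⟨x', rfl⟩ := yonedaEquiv.symm.surjective t
    rw [show x = x' from yonedaEquiv.apply_symm_apply x']
    rfl
  refine ⟨(c.locus x).toScheme, yoneda.map m, (c.locus x).ι, ?_, inferInstance⟩
  refine IsPullback.of_forall_isPullback_app fun W => ?_
  rw [Types.isPullback_iff]
  refine ⟨ConcreteCategory.hom_ext _ _ fun l => ?_, fun l l' hll => ?_, fun b h hbh => ?_⟩
  · show c.univ.pull (l ≫ m) = t.app (op W.unop) (l ≫ (c.locus x).ι)
    rw [ht, Pt.pull_comp, hm, Pt.pull_comp]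
  · exact (cancel_mono (c.locus x).ι).1 hll.2
  · have e : c.univ.pull b = x.pull h := hbh.trans (ht (W := W.unop) h)
    have hl := (c.good_pull_iff h x).1 (e ▸ c.pull_good b)
    refine ⟨IsOpenImmersion.lift (c.locus x).ι h (by
      rintro _ ⟨w, rfl⟩
      simpa using hl w), ?_, IsOpenImmersion.lift_fac _ _ _⟩
    refine c.hom_ext ?_
    show c.univ.pull (_ ≫ m) = c.univ.pull b
    rw [Pt.pull_comp, hm, ← Pt.pull_comp, IsOpenImmersion.lift_fac, e]

end Chart

/-- Charts for affine opens: `U` over `V`. -/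
theorem exists_chart [IsFinite g] [Flat g] [LocallyOfFinitePresentation g] {V : S.Opens} (hV : IsAffineOpen V)
    {U : X.Opens} (hU : IsAffineOpen U) (hUV : U ≤ f ⁻¹ᵁ V) :
    ∃ c : Chart g f, c.V = V ∧ c.U = U ∧ IsAffine c.W := by
  haveI : IsAffine (V : Scheme) := hV
  haveI : IsAffine (U : Scheme) := hU
  haveI : IsAffine (g ⁻¹ᵁ V).toScheme := hV.preimage g
  let fU : (U : Scheme) ⟶ V := IsOpenImmersion.lift V.ι (U.ι ≫ f) (by
    rintro _ ⟨z, rfl⟩
    simpa using hUV z.2)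
  have hfU : fU ≫ V.ι = U.ι ≫ f := IsOpenImmersion.lift_fac _ _ _
  have hgV : (g ∣_ V) ≫ V.ι = (g ⁻¹ᵁ V).ι ≫ g := morphismRestrict_ι g V
  haveI : IsFinite (g ∣_ V) := inferInstance
  haveI : Flat (g ∣_ V) := inferInstance
  haveI : LocallyOfFinitePresentation (g ∣_ V) := inferInstance
  have hfin : (g ∣_ V).appTop.hom.Finite :=
    ((HasAffineProperty.iff_of_isAffine (P := @IsFinite)).1 ‹IsFinite (g ∣_ V)›).2
  obtain ⟨W, hW, ⟨rep⟩⟩ := WeilRep.exists_representableBy (g ∣_ V) fU hfin (by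
    letI := (g ∣_ V).appTop.hom.toAlgebra
    have h1 : (g ∣_ V).appTop.hom.Flat :=
      (HasRingHomProperty.iff_of_isAffine (P := @Flat)).1 inferInstance
    have h2 : (g ∣_ V).appTop.hom.FinitePresentation :=
      (HasRingHomProperty.iff_of_isAffine (P := @LocallyOfFinitePresentation)).1 inferInstance
    haveI : Module.Finite Γ((V : Scheme), ⊤) Γ((g ⁻¹ᵁ V).toScheme, ⊤) := hfin
    haveI : Algebra.FinitePresentation Γ((V : Scheme), ⊤) Γ((g ⁻¹ᵁ V).toScheme, ⊤) := h2
    haveI : Module.FinitePresentation Γ((V : Scheme), ⊤) Γ((g ⁻¹ᵁ V).toScheme, ⊤) :=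
      Module.FinitePresentation.of_finite_of_finitePresentation _ _
    haveI : Module.Flat Γ((V : Scheme), ⊤) Γ((g ⁻¹ᵁ V).toScheme, ⊤) := h1
    exact Module.Flat.projective_of_finitePresentation)
  let y := rep.homEquiv (𝟙 W)
  let P := pullback (W.hom ≫ V.ι) g
  have hP : Set.range (pullback.snd (W.hom ≫ V.ι) g) ⊆ Set.range (g ⁻¹ᵁ V).ι := by
    rintro _ ⟨z, rfl⟩
    have e := congrArg (fun k : P ⟶ S => k z) (pullback.condition (f := W.hom ≫ V.ι) (g := g))
    simp only [Scheme.Hom.comp_apply] at e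
    simp only [Scheme.Opens.range_ι]
    show g _ ∈ V
    rw [← e]
    exact Subtype.coe_prop _
  let q : P ⟶ (g ⁻¹ᵁ V).toScheme := IsOpenImmersion.lift (g ⁻¹ᵁ V).ι _ hP
  let k : P ⟶ pullback W.hom (g ∣_ V) := pullback.lift (pullback.fst _ g) q (by
    rw [← cancel_mono V.ι, Category.assoc, Category.assoc, hgV, IsOpenImmersion.lift_fac_assoc]
    exact pullback.condition)
  let u : Pt g f W.left := ⟨W.hom ≫ V.ι, k ≫ y.left ≫ U.ι, by
    have e : y.left ≫ fU = pullback.snd W.hom (g ∣_ V) ≫ (g ∣_ V) := Over.w y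
    rw [Category.assoc, Category.assoc, ← hfU, reassoc_of% e, hgV, pullback.lift_snd_assoc,
      IsOpenImmersion.lift_fac_assoc]⟩
  -- evaluation of the universal point through the representing data
  have huev : ∀ {T : Over (V : Scheme)} (v : T ⟶ W) {Q : Scheme.{u}} (p : Q ⟶ T.left) (r : Q ⟶ (g ⁻¹ᵁ V).toScheme)
      (h : p ≫ T.hom = r ≫ (g ∣_ V)) (w : (p ≫ v.left) ≫ u.str = (r ≫ (g ⁻¹ᵁ V).ι) ≫ g),
      pullback.lift p r h ≫ (rep.homEquiv v).left ≫ U.ι = u.ev (p ≫ v.left) (r ≫ (g ⁻¹ᵁ V).ι) w := by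
    intro T v Q p r h w
    have e : rep.homEquiv v = (Flatn.morS (g ∣_ V) fU).map v.op y := by
      conv_lhs => rw [← Category.comp_id v, rep.homEquiv_comp]
    rw [e, WeilRep.morS_left]
    simp only [Pt.ev, u, ← Category.assoc]
    congr 2
    apply pullback.hom_ext
    · simp [k]
    · rw [← cancel_mono (g ⁻¹ᵁ V).ι]
      simp [k, q]
  refine ⟨⟨V, U, W.left, u, fun w => Subtype.coe_prop _, fun z => Subtype.coe_prop _, fun {T} x hxV hxU => ?_⟩, rfl, rfl, hW⟩
  let TV : Over (V : Scheme) := Over.mk (IsOpenImmersion.lift V.ι x.str (by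
    rintro _ ⟨t, rfl⟩
    simpa using hxV t))
  have hTV : TV.hom ≫ V.ι = x.str := IsOpenImmersion.lift_fac _ _ _
  have hc : pullback.fst TV.hom (g ∣_ V) ≫ x.str = (pullback.snd TV.hom (g ∣_ V) ≫ (g ⁻¹ᵁ V).ι) ≫ g := by
    rw [← hTV, pullback.condition_assoc, hgV, Category.assoc]
  let bx : pullback TV.hom (g ∣_ V) ⟶ (U : Scheme) := IsOpenImmersion.lift U.ι (x.ev _ _ hc) (by
    rintro _ ⟨z, rfl⟩
    simpa [Pt.ev] using hxU _)
  have hbx : bx ≫ U.ι = x.ev _ _ hc := IsOpenImmersion.lift_fac _ _ _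
  let yx : (Flatn.morS (g ∣_ V) fU).obj (op TV) := Over.homMk bx (by
    show bx ≫ fU = pullback.snd TV.hom (g ∣_ V) ≫ (g ∣_ V)
    rw [← cancel_mono V.ι, Category.assoc, hfU, reassoc_of% hbx, Pt.ev_w, Category.assoc, Category.assoc, hgV])
  -- points of `T` correspond to morphisms over `V`
  have key : ∀ v : TV ⟶ W, (rep.homEquiv v = yx ↔ u.pull v.left = x) := by
    intro v
    have hstr : v.left ≫ u.str = x.str := by
      show v.left ≫ W.hom ≫ V.ι = _
      rw [Over.w_assoc, hTV]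
    constructor
    · intro hv
      refine Pt.ext' hstr fun {Q} p q w w' => ?_
      let r : Q ⟶ (g ⁻¹ᵁ V).toScheme := IsOpenImmersion.lift (g ⁻¹ᵁ V).ι q (by
        rintro _ ⟨z, rfl⟩
        simp only [Scheme.Opens.range_ι]
        show g (q z) ∈ V
        have e := congrArg (fun k : Q ⟶ S => k z) w'
        simp only [Scheme.Hom.comp_apply] at e
        rw [← e]
        exact hxV _)
      have hr : r ≫ (g ⁻¹ᵁ V).ι = q := IsOpenImmersion.lift_fac _ _ _
      have hh : p ≫ TV.hom = r ≫ (g ∣_ V) := by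
        rw [← cancel_mono V.ι, Category.assoc, Category.assoc, hTV, hgV, reassoc_of% hr, w']
      have h1 := huev v p r hh (by rw [Category.assoc, hstr, hr, w'])
      rw [hv] at h1
      rw [Pt.ev_pull]
      refine ((Pt.ev_congr rfl rfl hr.symm _).trans h1.symm).trans ?_
      show pullback.lift p r hh ≫ bx ≫ U.ι = _
      rw [hbx, Pt.comp_ev]
      refine Pt.ev_congr rfl (pullback.lift_fst _ _ _) ?_ _
      rw [pullback.lift_snd_assoc, hr]
    · intro hv
      refine Over.OverMorphism.ext ((cancel_mono U.ι).1 ?_)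
      show _ = bx ≫ U.ι
      rw [hbx]
      have hh : pullback.fst TV.hom (g ∣_ V) ≫ TV.hom = pullback.snd TV.hom (g ∣_ V) ≫ (g ∣_ V) := pullback.condition
      have h1 := huev v _ _ hh (by rw [Category.assoc, hstr, hc])
      have hid : pullback.lift _ _ hh = 𝟙 _ := by apply pullback.hom_ext <;> simp
      rw [hid, Category.id_comp] at h1
      refine h1.trans ?_
      refine Eq.trans ?_ (Pt.ev_congr hv rfl rfl (by rw [hv]; exact hc))
      rw [Pt.ev_pull]
  refine ⟨(rep.homEquiv.symm yx).left, (key _).1 (rep.homEquiv.apply_symm_apply yx), fun m hm => ?_⟩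
  have hmw : m ≫ W.hom = TV.hom := by
    rw [← cancel_mono V.ι, Category.assoc, hTV]
    exact congrArg Pt.str hm
  have : (Over.homMk m hmw : TV ⟶ W) = rep.homEquiv.symm yx :=
    rep.homEquiv.eq_symm_apply.2 ((key _).2 hm)
  exact congrArg (fun k : TV ⟶ W => k.left) this

/-- Representability from a family of charts covering all points. -/
theorem exists_representableBy_of_charts [IsFinite g] {ι : Type u} (cs : ι → Chart g f)
    (hcov : ∀ (s : S) (F : Set X), F.Finite → (∀ x ∈ F, f x = s) → ∃ i, s ∈ (cs i).V ∧ F ⊆ (cs i).U) :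
    ∃ (W : Over S) (u₀ : Pt g f W.left), u₀.str = W.hom ∧
      (∀ {T : Scheme.{u}} (x : Pt g f T), ∃! m : T ⟶ W.left, u₀.pull m = x) ∧
      Nonempty ((Flatn.morS g f).RepresentableBy W) := by
  haveI : Presheaf.IsLocallySurjective Scheme.zariskiTopology (Sigma.desc fun i => (cs i).toPresheaf) := by
    refine ⟨fun {T} (x : Pt g f T) => ?_⟩
    have hc : ∀ t : T, ∃ i, t ∈ (cs i).locus x := fun t => by
      obtain ⟨i, hi, hF⟩ := hcov (x.str t) (x.b.base '' ((pullback.fst x.str g).base ⁻¹' {t}))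
        (((pullback.fst x.str g).finite_preimage_singleton t).image _) (by
          rintro _ ⟨z, hz, rfl⟩
          have e := congrArg (fun k : pullback x.str g ⟶ S => k z) x.w
          have e' := congrArg (fun k : pullback x.str g ⟶ S => k z) (pullback.condition (f := x.str) (g := g))
          simp only [Scheme.Hom.comp_apply] at e e'
          exact e.trans (e'.symm.trans (congrArg _ hz)))
      exact ⟨i, ((cs i).mem_locus x t).2 ⟨hi, fun z hz => hF ⟨z, hz, rfl⟩⟩⟩
    let 𝒰 : T.OpenCover := Scheme.Cover.mkOfCovers ι (fun i => ((cs i).locus x).toScheme) (fun i => ((cs i).locus x).ι)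
      fun t => ⟨(hc t).choose, ⟨t, (hc t).choose_spec⟩, rfl⟩
    refine GrothendieckTopology.superset_covering _ ?_ 𝒰.mem_grothendieckTopology
    rintro R k ⟨_, l, _, ⟨i⟩, rfl⟩
    obtain ⟨m, hm⟩ := (cs i).exists_locus_map x
    refine ⟨(Sigma.ι (fun i => yoneda.obj (cs i).W) i).app (op R) (l ≫ m), ?_⟩
    rw [← NatTrans.comp_app_apply, Sigma.ι_desc]
    show (cs i).univ.pull (l ≫ m) = x.pull (l ≫ ((cs i).locus x).ι)
    rw [Pt.pull_comp, hm, Pt.pull_comp]
  let Fs : Sheaf Scheme.zariskiTopology.{u} (Type u) :=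
    ⟨presheaf g f, (isSheaf_iff_isSheaf_of_type _ _).2 (isSheaf_presheaf g f)⟩
  obtain ⟨G, ⟨rep⟩⟩ := (Scheme.LocalRepresentability.isRepresentable (F := Fs)
    (f := fun i => (cs i).toPresheaf) fun i => (cs i).isOpenImmersion_toPresheaf).has_representation
  let u₀ : Pt g f G := rep.homEquiv (𝟙 G)
  have hrep : ∀ {R : Scheme.{u}} (h : R ⟶ G), (rep.homEquiv h : Pt g f R) = u₀.pull h := fun {R} h => by
    conv_lhs => rw [← Category.comp_id h, rep.homEquiv_comp]
    rfl
  have huni : ∀ {T : Scheme.{u}} (x : Pt g f T), ∃! m : T ⟶ G, u₀.pull m = x := fun {T} x =>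
    ⟨rep.homEquiv.symm x, (hrep _).symm.trans (rep.homEquiv.apply_symm_apply x),
      fun m hm => rep.homEquiv.injective (((hrep m).trans hm).trans (rep.homEquiv.apply_symm_apply x).symm)⟩
  let W : Over S := Over.mk u₀.str
  let b₀ : (Flatn.morS g f).obj (op W) := Over.homMk u₀.b u₀.w
  refine ⟨W, u₀, rfl, huni, ⟨?_⟩⟩
  have hval : ∀ {T : Over S} (v : T ⟶ W),
      ((Flatn.morS g f).map v.op b₀).left = u₀.ev (pullback.fst T.hom g ≫ v.left) (pullback.snd T.hom g)
        (by rw [Category.assoc, show v.left ≫ u₀.str = T.hom from Over.w v]; exact pullback.condition) := by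
    intro T v
    rw [WeilRep.morS_left]
    rfl
  have hbij : ∀ T : Over S, Function.Bijective fun v : T ⟶ W => (Flatn.morS g f).map v.op b₀ := by
    intro T
    refine ⟨fun v v' h => ?_, fun y => ?_⟩
    · refine Over.OverMorphism.ext ((huni (u₀.pull v'.left)).unique ?_ rfl)
      refine Pt.ext' ((Over.w v).trans (Over.w v').symm) fun p q w w' => ?_
      have hp : p ≫ T.hom = q ≫ g := by rw [← Over.w v]; exact w
      have hl := congrArg (fun k : (Over.map g).obj ((Over.pullback g).obj T) ⟶ Over.mk f =>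
        pullback.lift p q hp ≫ k.left) h
      dsimp only at hl
      rw [hval, hval, Pt.comp_ev, Pt.comp_ev] at hl
      rw [Pt.ev_pull, Pt.ev_pull]
      refine (Pt.ev_congr rfl ?_ ?_ _).trans (hl.trans (Pt.ev_congr rfl ?_ ?_ _))
      · rw [pullback.lift_fst_assoc]
      · rw [pullback.lift_snd]
      · rw [pullback.lift_fst_assoc]
      · rw [pullback.lift_snd]
    · let x : Pt g f T.left := ⟨T.hom, y.left, Over.w y⟩
      obtain ⟨m, hm, -⟩ := huni x
      refine ⟨Over.homMk m (congrArg Pt.str hm), Over.OverMorphism.ext ?_⟩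
      rw [hval]
      refine Eq.trans ?_ ((Pt.ev_congr hm rfl rfl ?_).trans x.ev_self)
      · rw [Pt.ev_pull]; rfl
      · rw [hm]; exact pullback.condition
  exact { homEquiv := fun {T} => Equiv.ofBijective _ (hbij T)
          homEquiv_comp := fun {T T'} j v => by simp [op_comp] }

/-- Representability when finite subsets of fibres lie in affine opens. -/
theorem exists_representableBy_of_AF (hg : Mor2.IsFinLocFree g)
    (hAF : ∀ (s : S) (F : Set X), F.Finite → (∀ x ∈ F, f x = s) → ∃ U : X.Opens, IsAffineOpen U ∧ F ⊆ U) :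
    ∃ (W : Over S) (u₀ : Pt g f W.left), u₀.str = W.hom ∧
      (∀ {T : Scheme.{u}} (x : Pt g f T), ∃! m : T ⟶ W.left, u₀.pull m = x) ∧
      Nonempty ((Flatn.morS g f).RepresentableBy W) := by
  obtain ⟨_, _, _⟩ := hg
  let ι := {p : S.affineOpens × X.affineOpens // p.2.1 ≤ f ⁻¹ᵁ p.1.1}
  choose c hcV hcU hcW using fun p : ι => exists_chart (g := g) p.1.1.2 p.1.2.2 p.2
  refine exists_representableBy_of_charts c fun s F hF hFs => ?_
  obtain ⟨V, hV, hsV, -⟩ := exists_isAffineOpen_mem_and_subset (x := s) (U := ⊤) trivial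
  obtain ⟨U, hU, hFU⟩ := hAF s F hF hFs
  obtain ⟨U', hU', -, hU'V, hFU'⟩ := Grass60.exists_affine_le hU (f ⁻¹ᵁ V) F hF hFU
    (fun x hx => show f x ∈ V by rw [hFs x hx]; exact hsV)
  exact ⟨⟨(⟨V, hV⟩, ⟨U', hU'⟩), hU'V⟩, by rw [hcV]; exact hsV, by rw [hcU]; exact hFU'⟩

end Groth.Agent.FlatMor3.MorSRep
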