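import Groth.Agent.InvX.Pullback
import Groth.Agent.InvX.Tensor
import Groth.Agent.H23.Frame

/-!
# The inverse image of a rank `n` frame is a frame
-/

set_option backward.isDefEq.respectTransparency false
set_option backward.isDefEq.respectTransparency.types false

universe u

open CategoryTheory AlgebraicGeometry TopologicalSpace Opposite

namespace Groth.Agent.FlatMor3.PullFrame

open Groth.Agent.AModX Groth.Agent.InvX
open Groth.Agent.H23.Frame (comb)

variable {X Y : Scheme.{u}} (r : X ⟶ Y) {M : Y.Modules} {U : Y.Opens} {n : ℕ}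
  {s : Fin n → Γ(M, U)}

lemma exists_coord (hs : H23.Frame.IsFrame M s) {V : Y.Opens} (h : V ≤ U) (x : Γ(M, V)) :
    ∃ c, comb M s V h c = x := (hs V h).2 x

/-- The `j`-th coordinate, pulled back. -/
noncomputable def coordPull (hs : H23.Frame.IsFrame M s) (j : Fin n) {V : Y.Opens} (x : Γ(M, V)) :
    Γ((r ⁻¹ᵁ U).toScheme, (r ⁻¹ᵁ U).ι ⁻¹ᵁ r ⁻¹ᵁ V) :=
  ((r ⁻¹ᵁ U).ι ≫ r).appLE (V ⊓ U) _ (preimage_le r V)
    ((exists_coord hs inf_le_right (res M (inf_le_left : V ⊓ U ≤ V) x)).choose j)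

lemma coordPull_eq (hs : H23.Frame.IsFrame M s) (j : Fin n) {V : Y.Opens} (x : Γ(M, V))
    (c : Fin n → Γ(Y, V ⊓ U)) (hc : comb M s _ inf_le_right c = res M (inf_le_left : V ⊓ U ≤ V) x) :
    coordPull r hs j x = ((r ⁻¹ᵁ U).ι ≫ r).appLE (V ⊓ U) _ (preimage_le r V) (c j) := by
  unfold coordPull
  congr 1
  exact congrFun ((hs _ inf_le_right).1
    ((exists_coord hs inf_le_right (res M (inf_le_left : V ⊓ U ≤ V) x)).choose_spec.trans hc.symm)) j

lemma comb_add {V : Y.Opens} (h : V ≤ U) (c d : Fin n → Γ(Y, V)) :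
    comb M s V h (c + d) = comb M s V h c + comb M s V h d := by
  simp [comb, add_smul, Finset.sum_add_distrib]

lemma comb_res {V W : Y.Opens} (h : V ≤ U) (hWV : W ≤ V) (c : Fin n → Γ(Y, V)) :
    res M hWV (comb M s V h c) = comb M s W (hWV.trans h) (fun i => resR hWV (c i)) := by
  rw [comb, map_sum]
  refine Finset.sum_congr rfl fun i _ => ?_
  rw [res_smul]
  exact congrArg _ (res_res h hWV (s i))

lemma coordPull_add (hs : H23.Frame.IsFrame M s) (j : Fin n) {V : Y.Opens} (x y : Γ(M, V)) :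
    coordPull r hs j (x + y) = coordPull r hs j x + coordPull r hs j y := by
  obtain ⟨g, hg⟩ := exists_coord hs inf_le_right (res M (inf_le_left : V ⊓ U ≤ V) x)
  obtain ⟨g', hg'⟩ := exists_coord hs inf_le_right (res M (inf_le_left : V ⊓ U ≤ V) y)
  rw [coordPull_eq r hs j x g hg, coordPull_eq r hs j y g' hg',
    coordPull_eq r hs j (x + y) (g + g') (by rw [map_add, comb_add, hg, hg']), Pi.add_apply, map_add]

lemma coordPull_res (hs : H23.Frame.IsFrame M s) (j : Fin n) {V W : Y.Opens} (hWV : W ≤ V) (x : Γ(M, V)) :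
    coordPull r hs j (res M hWV x) =
      resR ((r ⁻¹ᵁ U).ι.preimage_mono (r.preimage_mono hWV)) (coordPull r hs j x) := by
  obtain ⟨g, hg⟩ := exists_coord hs inf_le_right (res M (inf_le_left : V ⊓ U ≤ V) x)
  have h : W ⊓ U ≤ V ⊓ U := inf_le_inf_right _ hWV
  rw [coordPull_eq r hs j x g hg, coordPull_eq r hs j (res M hWV x) (fun i => resR h (g i)) (by
    rw [res_res]
    have := congrArg (res M h) hg
    rw [comb_res, res_res] at this
    exact this)]
  refine (ConcreteCategory.congr_hom (Scheme.Hom.map_appLE ((r ⁻¹ᵁ U).ι ≫ r)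
    (preimage_le r _) (homOfLE h).op) (g j)).trans ?_
  exact (ConcreteCategory.congr_hom (Scheme.Hom.appLE_map ((r ⁻¹ᵁ U).ι ≫ r) (preimage_le r _)
    (homOfLE _).op) (g j)).symm

lemma coordPull_smul (hs : H23.Frame.IsFrame M s) (j : Fin n) {V : Y.Opens} (c : Γ(Y, V)) (x : Γ(M, V)) :
    coordPull r hs j (c • x) = (show Γ((r ⁻¹ᵁ U).toScheme, (r ⁻¹ᵁ U).ι ⁻¹ᵁ r ⁻¹ᵁ V) from
      ((r ⁻¹ᵁ U).ι ≫ r).app V c) * coordPull r hs j x := by
  obtain ⟨g, hg⟩ := exists_coord hs inf_le_right (res M (inf_le_left : V ⊓ U ≤ V) x)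
  have hs' : comb M s _ inf_le_right (fun i => resR (inf_le_left : V ⊓ U ≤ V) c * g i) =
      res M (inf_le_left : V ⊓ U ≤ V) (c • x) := by
    rw [res_smul, ← hg, comb, comb, Finset.smul_sum]
    exact Finset.sum_congr rfl fun i _ => mul_smul _ _ _
  rw [coordPull_eq r hs j x g hg, coordPull_eq r hs j _ _ hs', map_mul]
  congr 1
  rw [Scheme.Hom.app_eq_appLE]
  exact ConcreteCategory.congr_hom (Scheme.Hom.map_appLE ((r ⁻¹ᵁ U).ι ≫ r)
    (preimage_le r _) (homOfLE (inf_le_left : V ⊓ U ≤ V)).op) c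

/-- The coordinates, adjointly. -/
noncomputable def pullTriv (hs : H23.Frame.IsFrame M s) (j : Fin n) : M ⟶ pushUnit r U where
  val := PresheafOfModules.homMk
    { app := fun V => AddCommGrpCat.ofHom (AddMonoidHom.mk' (fun x : Γ(M, unop V) => coordPull r hs j x)
        (coordPull_add r hs j))
      naturality := fun V W i => by
        ext x
        exact coordPull_res r hs j i.unop.le x }
    fun V c x => coordPull_smul r hs j c x

/-- The coordinate on the inverse image. -/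
noncomputable def coordHom (hs : H23.Frame.IsFrame M s) (j : Fin n) :
    pulledRes r M U ⟶ Coh.structureModule (r ⁻¹ᵁ U).toScheme :=
  ((resPullAdj r U).homEquiv _ _).symm (pullTriv r hs j)

lemma pullMul_coordHom (hs : H23.Frame.IsFrame M s) (i j : Fin n) :
    pullMul r (s i) ≫ coordHom r hs j = if i = j then 𝟙 _ else 0 := by
  classical
  refine InvX.hom_ext_of_frames (M := Coh.structureModule (r ⁻¹ᵁ U).toScheme)
    (fun _ : Unit => (⊤ : (r ⁻¹ᵁ U).toScheme.Opens)) (fun z => ⟨(), trivial⟩)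
    (fun _ => (1 : Γ((r ⁻¹ᵁ U).toScheme, ⊤))) (fun _ => InvX.isFrame_one ⊤) fun _ => ?_
  let W' : (r ⁻¹ᵁ U).toScheme.Opens := (r ⁻¹ᵁ U).ι ⁻¹ᵁ r ⁻¹ᵁ U
  have hW : (⊤ : (r ⁻¹ᵁ U).toScheme.Opens) ≤ W' := fun z _ => z.2
  have hb := resPullAdj_app r (coordHom r hs j) U (s i)
  rw [coordHom, Equiv.apply_symm_apply] at hb
  have hc : coordPull r hs j (s i) = if i = j then 1 else 0 := by
    rw [coordPull_eq r hs j (s i) (fun k => if i = k then 1 else 0) (by
      rw [comb, Finset.sum_eq_single i]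
      · rw [if_pos rfl, one_smul]; rfl
      · intro k _ hk; rw [if_neg (Ne.symm hk), zero_smul]
      · intro h; exact absurd (Finset.mem_univ i) h)]
    split
    · exact map_one _
    · exact map_zero _
  have h2 := (app_res (M := pulledRes r M U) (coordHom r hs j) hW
      (show Γ(pulledRes r M U, (r ⁻¹ᵁ U).ι ⁻¹ᵁ r ⁻¹ᵁ U) from res ((Scheme.Modules.pullback r).obj M)
        ((r ⁻¹ᵁ U).ι.image_preimage_le (r ⁻¹ᵁ U)) (pullElt r (s i)))).trans
      (congrArg (res (Coh.structureModule (r ⁻¹ᵁ U).toScheme) hW) (hb.symm.trans (hc : _)))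
  refine Eq.trans ?_ (h2.trans ?_)
  · show (coordHom r hs j).app ⊤ ((pullMul r (s i)).app ⊤ (1 : Γ((r ⁻¹ᵁ U).toScheme, ⊤))) = _
    refine congrArg ((coordHom r hs j).app ⊤) ?_
    refine (pullMul_app r (s i) ⊤ 1).trans ?_
    rw [map_one, one_smul]
    exact (res_res (M := (Scheme.Modules.pullback r).obj M) ((r ⁻¹ᵁ U).ι.image_preimage_le (r ⁻¹ᵁ U))
      ((r ⁻¹ᵁ U).ι.image_mono hW) (pullElt r (s i))).symm
  · split
    · exact map_one (resR hW)
    · exact map_zero _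

lemma sum_coordHom (hs : H23.Frame.IsFrame M s) :
    ∑ j, coordHom r hs j ≫ pullMul r (s j) = 𝟙 (pulledRes r M U) := by
  apply ((resPullAdj r U).homEquiv _ _).injective
  refine Scheme.Modules.hom_ext _ _ fun V => ?_
  ext x
  obtain ⟨g, hg⟩ := exists_coord hs inf_le_right (res M (inf_le_left : V ⊓ U ≤ V) x)
  refine (resPullAdj_app r _ V x).trans (Eq.trans ?_ (resPullAdj_app r (𝟙 (pulledRes r M U)) V x).symm)
  rw [H23.Frame.app_sum]
  let N := (r ⁻¹ᵁ U).ι ''ᵁ ((r ⁻¹ᵁ U).ι ⁻¹ᵁ r ⁻¹ᵁ V)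
  have hN : N ≤ r ⁻¹ᵁ (V ⊓ U) := by
    rintro z ⟨w, hw, rfl⟩
    exact ⟨hw, w.2⟩
  let P := (Scheme.Modules.pullback r).obj M
  let η : ∀ (V₁ : Y.Opens), Γ(M, V₁) →+ Γ(P, r ⁻¹ᵁ V₁) := fun V₁ =>
    (((Scheme.Modules.pullbackPushforwardAdjunction r).unit.app M).app V₁).hom
  have ηres : ∀ {V₁ W₁ : Y.Opens} (h : W₁ ≤ V₁) (y : Γ(M, V₁)),
      η W₁ (res M h y) = res P (r.preimage_mono h) (η V₁ y) := fun h y =>
    app_res ((Scheme.Modules.pullbackPushforwardAdjunction r).unit.app M) h y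
  have ηsmul : ∀ {V₁ : Y.Opens} (c : Γ(Y, V₁)) (y : Γ(M, V₁)),
      η V₁ (c • y) = r.app V₁ c • η V₁ y := fun c y =>
    Scheme.Modules.Hom.app_smul ((Scheme.Modules.pullbackPushforwardAdjunction r).unit.app M) c y
  have hu := congrArg (fun t => res P hN (η (V ⊓ U) t)) hg
  simp only [comb, map_sum, ηsmul, ηres, res_res, res_smul] at hu
  refine Eq.trans (Finset.sum_congr rfl fun j _ => ?_) hu
  refine (congrArg ((pullMul r (s j)).app ((r ⁻¹ᵁ U).ι ⁻¹ᵁ r ⁻¹ᵁ V))
      (((resPullAdj_app r (coordHom r hs j) V x).symm.trans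
        (by rw [coordHom, Equiv.apply_symm_apply]; rfl)).trans (coordPull_eq r hs j x g hg))).trans ?_
  refine (pullMul_app r (s j) _ _).trans ?_
  have key : res P ((r ⁻¹ᵁ U).ι_image_le _) (pullElt r (s j)) =
      res P hN (η (V ⊓ U) (res M inf_le_right (s j))) := by
    rw [ηres, res_res]; rfl
  refine Eq.trans ?_ (congrArg (resR hN (r.app (V ⊓ U) (g j)) • ·) key)
  congr 1
  rw [Scheme.Opens.ι_appIso, Scheme.Hom.comp_appLE]
  exact ConcreteCategory.congr_hom (Scheme.Opens.ι_appLE (r ⁻¹ᵁ U) (r ⁻¹ᵁ (V ⊓ U))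
      ((r ⁻¹ᵁ U).ι ⁻¹ᵁ r ⁻¹ᵁ V) _) (r.app (V ⊓ U) (g j))

/-- The inverse image of a rank `n` frame is a frame. -/
theorem isFrame_pullElt (hs : H23.Frame.IsFrame M s) :
    H23.Frame.IsFrame ((Scheme.Modules.pullback r).obj M) fun i => pullElt r (s i) := by
  classical
  intro V hV
  obtain ⟨V', rfl⟩ : ∃ V', (r ⁻¹ᵁ U).ι ''ᵁ V' = V := ⟨(r ⁻¹ᵁ U).ι ⁻¹ᵁ V, by
    rw [Scheme.Hom.image_preimage_eq_opensRange_inf, Scheme.Opens.opensRange_ι]
    exact inf_eq_right.mpr hV⟩
  let a := ((r ⁻¹ᵁ U).ι.appIso V')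
  have key : ∀ c : Fin n → Γ(X, (r ⁻¹ᵁ U).ι ''ᵁ V'),
      (show Γ(pulledRes r M U, V') from comb _ (fun i => pullElt r (s i)) _ hV c) =
        ∑ i, (pullMul r (s i)).app V' (a.hom (c i)) := fun c => by
    refine Finset.sum_congr rfl fun i _ => ?_
    show c i • _ = a.inv.hom (a.hom (c i)) •
      res ((Scheme.Modules.pullback r).obj M) ((r ⁻¹ᵁ U).ι_image_le V') (pullElt r (s i))
    rw [Iso.hom_inv_id_apply]
    rfl
  have hleft : ∀ (c : Fin n → Γ((r ⁻¹ᵁ U).toScheme, V')) (j : Fin n),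
      (show Γ((r ⁻¹ᵁ U).toScheme, V') from
        (coordHom r hs j).app V' (∑ i, (pullMul r (s i)).app V' (c i))) = c j := by
    intro c j
    show (coordHom r hs j).app V' _ = _
    rw [map_sum, Finset.sum_eq_single j]
    · show (pullMul r (s j) ≫ coordHom r hs j).app V' (c j) = _
      rw [pullMul_coordHom, if_pos rfl]; rfl
    · intro i _ hi
      show (pullMul r (s i) ≫ coordHom r hs j).app V' (c i) = _
      rw [pullMul_coordHom, if_neg hi]; rfl
    · intro h; exact absurd (Finset.mem_univ j) h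
  refine ⟨fun c d hcd => funext fun j => ?_, fun x => ?_⟩
  · have e : (∑ i, (pullMul r (s i)).app V' (a.hom (c i))) = ∑ i, (pullMul r (s i)).app V' (a.hom (d i)) :=
      (key c).symm.trans (hcd.trans (key d))
    have := (hleft (fun i => a.hom (c i)) j).symm.trans
      ((congrArg ((coordHom r hs j).app V') e).trans (hleft (fun i => a.hom (d i)) j))
    simpa using congrArg a.inv this
  · refine ⟨fun j => a.inv (show Γ((r ⁻¹ᵁ U).toScheme, V') from (coordHom r hs j).app V' x), ?_⟩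
    refine (key _).trans ?_
    have h := congrArg (fun t : pulledRes r M U ⟶ pulledRes r M U => t.app V' x) (sum_coordHom r hs)
    simp only [H23.Frame.app_sum] at h
    refine Eq.trans (Finset.sum_congr rfl fun j _ => ?_) h
    rw [Iso.inv_hom_id_apply]
    rfl

end Groth.Agent.FlatMor3.PullFrame
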