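import Groth.Agent.FlatMor3.FibreBC

/-!
# Impurities under base change and along closed immersions
-/

universe u

open TensorProduct

namespace Groth.Agent.FlatMor3

attribute [local instance] Algebra.TensorProduct.rightAlgebra

variable {A B : Type u} [CommRing A] [CommRing B] [Algebra A B] (N : Type u) [AddCommGroup N] [Module B N]

/-- An impurity gives an impurity over any base change with points above the given ones. -/
theorem exists_impurity_baseChange [Algebra.FiniteType A B] (p : Ideal A) [p.IsPrime]
    {A' B' N' : Type u} [CommRing A'] [CommRing B'] [Algebra A A'] [Algebra B B'] [Algebra A' B'] [Algebra A B']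
    [IsScalarTower A B B'] [IsScalarTower A A' B'] [AddCommGroup N'] [Module B' N'] [Module B N']
    [IsScalarTower B B' N'] [Module A' N'] [IsScalarTower A' B' N'] (f : N →ₗ[B] N') (t' t : Ideal A') [t'.IsPrime]
    [t.IsPrime] (P : Ideal B') [P.IsPrime] (h : FlatCA.IsImpurity A B N p A' B' N' f t' t P)
    {A'' : Type u} [CommRing A''] [Algebra A A''] [Algebra A' A''] [IsScalarTower A A' A'']
    (u' u : Ideal A'') [u'.IsPrime] [u.IsPrime] [u'.LiesOver t'] [u.LiesOver t] (hle : u' ≤ u) :
    ∃ (B'' N'' : Type u) (_ : CommRing B'') (_ : Algebra B B'') (_ : Algebra A'' B'') (_ : Algebra A B'')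
      (_ : IsScalarTower A B B'') (_ : IsScalarTower A A'' B'') (_ : AddCommGroup N'') (_ : Module B'' N'')
      (_ : Module B N'') (_ : IsScalarTower B B'' N'') (_ : Module A'' N'') (_ : IsScalarTower A'' B'' N'')
      (g : N →ₗ[B] N'') (Q : Ideal B'') (_ : Q.IsPrime), FlatCA.IsImpurity A B N p A'' B'' N'' g u' u Q := by
  obtain ⟨hpush, hf, -, htp, hPt, hP, hno⟩ := h
  haveI := hpush
  haveI := htp
  haveI := hPt
  haveI : Algebra.IsPushout A A' B B' := hpush.symm
  haveI : Algebra.IsPushout A' A'' B' (A'' ⊗[A'] B') := TensorProduct.isPushout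
  let B'' := A'' ⊗[A'] B'
  letI : Algebra B B'' := ((algebraMap B' B'').comp (algebraMap B B')).toAlgebra
  haveI : IsScalarTower B B' B'' := .of_algebraMap_eq fun _ => rfl
  haveI : IsScalarTower A A'' B'' := inferInstance
  haveI : IsScalarTower A' B' B'' := .of_algebraMap_eq fun a => by
    show algebraMap A' B'' a = (1 : A'') ⊗ₜ[A'] algebraMap A' B' a
    rw [Algebra.TensorProduct.algebraMap_apply, Algebra.algebraMap_eq_smul_one, TensorProduct.smul_tmul,
      ← Algebra.algebraMap_eq_smul_one]
  haveI : IsScalarTower A B B'' := .of_algebraMap_eq fun a => by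
    show algebraMap A B'' a = algebraMap B' B'' (algebraMap B B' (algebraMap A B a))
    rw [← IsScalarTower.algebraMap_apply A B B', IsScalarTower.algebraMap_apply A A' B',
      ← IsScalarTower.algebraMap_apply A' B' B'', ← IsScalarTower.algebraMap_apply A A' B'']
  haveI : IsScalarTower A B' B'' := .of_algebraMap_eq fun a => by
    rw [IsScalarTower.algebraMap_apply A A' B', ← IsScalarTower.algebraMap_apply A' B' B'',
      ← IsScalarTower.algebraMap_apply A A' B'']
  let N'' := B'' ⊗[B'] N'
  haveI : IsScalarTower A'' B'' N'' := inferInstance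
  haveI : IsScalarTower B B'' N'' := inferInstance
  let h : N' →ₗ[B'] N'' := TensorProduct.mk B' B'' N' 1
  have hh : IsBaseChange B'' h := TensorProduct.isBaseChange B' N' B''
  haveI : Algebra.IsPushout A' B' A'' B'' := Algebra.IsPushout.symm inferInstance
  haveI : Algebra.IsPushout A A'' B B'' :=
    (Algebra.IsPushout.comp_iff A A' B (S' := B') (T := A'') (T' := B'')).2 inferInstance
  haveI : u'.LiesOver t' := ‹_›
  haveI : Algebra.FiniteType A'' B'' :=
    (Algebra.IsPushout.equiv A A'' B B'').surjective |> fun h =>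
      Algebra.FiniteType.of_surjective (Algebra.IsPushout.equiv A A'' B B'').toAlgHom h
  obtain ⟨Q, hQ, hQu, hQP, hQass⟩ := exists_fiber_associatedPrime_baseChange h hh t' u' P hP
  refine ⟨B'', N'', inferInstance, inferInstance, inferInstance, inferInstance, inferInstance, inferInstance,
    inferInstance, inferInstance, inferInstance, inferInstance, inferInstance, inferInstance,
    (h.restrictScalars B).comp f, Q, hQ, Algebra.IsPushout.symm inferInstance, hf.comp hh, hle,
    Ideal.LiesOver.trans u t p, hQu, hQass, fun Q' _ hQQ' hQ' => ?_⟩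
  refine hno (Q'.comap (algebraMap B' B'')) (hQP.symm.le.trans (Ideal.comap_mono hQQ')) ⟨?_⟩
  rw [Ideal.under, Ideal.comap_comap, ← IsScalarTower.algebraMap_eq, IsScalarTower.algebraMap_eq A' A'' B'',
    ← Ideal.comap_comap]
  show t = Ideal.comap (algebraMap A' A'') (Q'.under A'')
  rw [← hQ'.over]
  exact Ideal.LiesOver.over

end Groth.Agent.FlatMor3
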