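import Groth.Agent.FlatMor3.FibreBC

/-!
# Impurities along closed immersions
-/

universe u

open TensorProduct

namespace Groth.Agent.FlatMor3

attribute [local instance] Algebra.TensorProduct.rightAlgebra

section Assoc

variable {R R' M M' : Type u} [CommRing R] [CommRing R'] [AddCommGroup M] [Module R M] [AddCommGroup M'] [Module R' M']
  (ψ : R →+* R') (g : M →ₛₗ[ψ] M')

theorem colon_eq_comap_colon (hg : Function.Injective g) (x : M) :
    (Submodule.colon (⊥ : Submodule R M) {x}) = (Submodule.colon (⊥ : Submodule R' M') {g x}).comap ψ := by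
  ext r
  rw [Submodule.mem_colon_singleton, Submodule.mem_bot, Ideal.mem_comap, Submodule.mem_colon_singleton,
    Submodule.mem_bot, ← map_smulₛₗ g, map_eq_zero_iff g hg]

theorem mem_associatedPrimes_comap_iff (hψ : Function.Surjective ψ) (hg : Function.Bijective g) (Q : Ideal R') :
    Q.comap ψ ∈ associatedPrimes R M ↔ Q ∈ associatedPrimes R' M' := by
  constructor
  · rintro ⟨hp, x, hx⟩
    refine ⟨⟨fun h => hp.ne_top (by rw [h, Ideal.comap_top]), fun {a b} hab => ?_⟩, g x, ?_⟩
    · obtain ⟨a, rfl⟩ := hψ a
      obtain ⟨b, rfl⟩ := hψ b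
      exact hp.mem_or_mem (show a * b ∈ Q.comap ψ by rw [Ideal.mem_comap, map_mul]; exact hab)
    · refine Ideal.comap_injective_of_surjective ψ hψ ?_
      rw [hx, colon_eq_comap_colon ψ g hg.1, Ideal.comap_radical]
  · rintro ⟨hp, y, hy⟩
    obtain ⟨x, rfl⟩ := hg.2 y
    exact ⟨Ideal.IsPrime.comap ψ, x, by rw [hy, colon_eq_comap_colon ψ g hg.1, Ideal.comap_radical]⟩

theorem ker_le_of_mem_associatedPrimes (hg : Function.Injective g) {P : Ideal R} (hP : P ∈ associatedPrimes R M) :
    RingHom.ker ψ ≤ P := by
  obtain ⟨-, x, hx⟩ := hP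
  intro r hr
  rw [hx, colon_eq_comap_colon ψ g hg]
  refine Ideal.le_radical ?_
  rw [Ideal.mem_comap, RingHom.mem_ker.1 hr]
  exact Submodule.zero_mem _

end Assoc

theorem isPrime_fiberIdeal {R S : Type u} [CommRing R] [CommRing S] [Algebra R S] (p : Ideal R) [p.IsPrime]
    (P : Ideal S) [P.IsPrime] [P.LiesOver p] : (FlatCA.fiberIdeal p P).IsPrime := by
  have h : P ∈ p.primesOver S := ⟨inferInstance, inferInstance⟩
  have h1 := congrArg Subtype.val ((PrimeSpectrum.primesOverOrderIsoFiber R S p).symm_apply_apply ⟨P, h⟩)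
  have h2 : (PrimeSpectrum.primesOverOrderIsoFiber R S p ⟨P, h⟩).asIdeal.comap (algebraMap S (p.Fiber S)) = P := h1
  rw [← h2, comap_fiberIdeal_of_prime]
  infer_instance

section Surj

variable {R S S' : Type u} [CommRing R] [CommRing S] [CommRing S'] [Algebra R S] [Algebra S S'] [Algebra R S']
  [IsScalarTower R S S'] (hS : Function.Surjective (algebraMap S S')) (M : Type u) [AddCommGroup M] [Module S' M]
  [Module S M] [IsScalarTower S S' M] (p : Ideal R) [p.IsPrime]

include hS in
theorem fiber_assoc_surjective :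
    ∃ (ψ : p.Fiber S →+* p.Fiber S') (g : FlatCA.fiberMod p S M →ₛₗ[ψ] FlatCA.fiberMod p S' M),
      Function.Surjective ψ ∧ Function.Bijective g ∧
        ψ.comp (algebraMap S (p.Fiber S)) = (algebraMap S' (p.Fiber S')).comp (algebraMap S S') := by
  let k := p.ResidueField
  let ψ : p.Fiber S →ₐ[k] p.Fiber S' :=
    Algebra.TensorProduct.map (AlgHom.id k k) (IsScalarTower.toAlgHom R S S')
  have hψ1 : ∀ s, ψ (algebraMap S (p.Fiber S) s) = algebraMap S' (p.Fiber S') (algebraMap S S' s) := fun s => rfl
  have hψ : Function.Surjective ψ := by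
    intro z
    induction z using TensorProduct.induction_on with
    | zero => exact ⟨0, map_zero _⟩
    | tmul c s => obtain ⟨s, rfl⟩ := hS s; exact ⟨c ⊗ₜ s, rfl⟩
    | add x y hx hy => obtain ⟨a, rfl⟩ := hx; obtain ⟨b, rfl⟩ := hy; exact ⟨a + b, map_add _ _ _⟩
  letI : Module R M := Module.compHom M (algebraMap R S)
  haveI : IsScalarTower R S M := .of_algebraMap_smul fun _ _ => rfl
  haveI : IsScalarTower R S' M := .of_algebraMap_smul fun r m => by
    show algebraMap R S' r • m = algebraMap R S r • m
    rw [IsScalarTower.algebraMap_apply R S S', IsScalarTower.algebraMap_smul]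
  let F' := p.Fiber S'
  let G := p.Fiber S ⊗[S] M
  let G' := F' ⊗[S'] M
  letI : Algebra (p.Fiber S) F' := ψ.toRingHom.toAlgebra
  letI : Algebra S F' := ((algebraMap S' F').comp (algebraMap S S')).toAlgebra
  haveI : IsScalarTower S S' F' := .of_algebraMap_eq fun _ => rfl
  haveI : IsScalarTower S (p.Fiber S) F' := .of_algebraMap_eq fun s => (hψ1 s).symm
  haveI : SMulCommClass S' (p.Fiber S) F' := ⟨fun a b c => by simp only [Algebra.smul_def]; ring⟩
  haveI : SMulCommClass (p.Fiber S) S' F' := SMulCommClass.symm _ _ _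
  haveI : IsScalarTower (p.Fiber S) F' G' := inferInstance
  haveI : IsScalarTower S S' G' := .of_algebraMap_smul fun s z => by
    rw [← IsScalarTower.algebraMap_smul F' (algebraMap S S' s) z, ← IsScalarTower.algebraMap_apply,
      IsScalarTower.algebraMap_smul]
  haveI : IsScalarTower S (p.Fiber S) G' := IsScalarTower.of_algebraMap_smul (R := S) (A := p.Fiber S) (M := G') fun s z => by
    rw [← IsScalarTower.algebraMap_smul F' (algebraMap S (p.Fiber S) s) z, ← IsScalarTower.algebraMap_apply,
      IsScalarTower.algebraMap_smul]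
  let f' : M →ₗ[S] G' := ((TensorProduct.mk S' F' M) 1).restrictScalars S
  let g : G →ₗ[p.Fiber S] G' := (TensorProduct.isBaseChange S M (p.Fiber S)).lift f'
  have hg1 : ∀ (z : p.Fiber S) (m : M), g (z ⊗ₜ m) = ψ z • ((1 : F') ⊗ₜ[S'] m) := fun z m => by
    rw [show (z ⊗ₜ[S] m : G) = z • ((1 : p.Fiber S) ⊗ₜ[S] m) by rw [TensorProduct.smul_tmul', smul_eq_mul, mul_one],
      map_smul]
    exact congrArg (fun w => ψ z • w) ((TensorProduct.isBaseChange S M (p.Fiber S)).lift_eq f' m)
  haveI : Algebra.IsPushout R k S (p.Fiber S) := TensorProduct.isPushout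
  haveI : Algebra.IsPushout R k S' F' := TensorProduct.isPushout
  let e := Algebra.IsPushout.cancelBaseChange R k S (p.Fiber S) M
  let e' := Algebra.IsPushout.cancelBaseChange R k S' F' M
  have hcomp : ∀ y, g (e.symm y) = e'.symm y := fun y => by
    induction y using TensorProduct.induction_on with
    | zero => simp
    | tmul c m =>
      rw [Algebra.IsPushout.cancelBaseChange_symm_tmul, Algebra.IsPushout.cancelBaseChange_symm_tmul, hg1,
        AlgHom.commutes, TensorProduct.smul_tmul', smul_eq_mul, mul_one]
    | add x y hx hy => simp only [map_add, hx, hy]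
  have hg : Function.Bijective g := by
    have : (g : G → G') = fun z => e'.symm (e z) := funext fun z => by rw [← hcomp, e.symm_apply_apply]
    rw [this]
    exact e'.symm.bijective.comp e.bijective
  exact ⟨ψ.toRingHom, { toFun := g, map_add' := map_add g, map_smul' := fun c x => g.map_smul c x },
    hψ, hg, RingHom.ext hψ1⟩

include hS in
theorem fiberIdeal_comap_mem_iff (P : Ideal S') [P.IsPrime] [P.LiesOver p] :
    FlatCA.fiberIdeal p (P.comap (algebraMap S S')) ∈ associatedPrimes (p.Fiber S) (FlatCA.fiberMod p S M) ↔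
      FlatCA.fiberIdeal p P ∈ associatedPrimes (p.Fiber S') (FlatCA.fiberMod p S' M) := by
  obtain ⟨ψ, g, hψ, hg, hc⟩ := fiber_assoc_surjective hS M p
  haveI := isPrime_fiberIdeal p P
  rw [← mem_associatedPrimes_comap_iff ψ g hψ hg]
  have : FlatCA.fiberIdeal p (P.comap (algebraMap S S')) = (FlatCA.fiberIdeal p P).comap ψ := by
    conv_lhs => rw [← comap_fiberIdeal_of_liesOver p P, Ideal.comap_comap, ← hc, ← Ideal.comap_comap]
    exact comap_fiberIdeal_of_prime p _
  rw [this]

include hS in
theorem exists_comap_of_fiberIdeal_mem (P : Ideal S) [P.IsPrime] [P.LiesOver p]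
    (h : FlatCA.fiberIdeal p P ∈ associatedPrimes (p.Fiber S) (FlatCA.fiberMod p S M)) :
    ∃ (Q : Ideal S') (_ : Q.IsPrime), Q.LiesOver p ∧ Q.comap (algebraMap S S') = P ∧
      FlatCA.fiberIdeal p Q ∈ associatedPrimes (p.Fiber S') (FlatCA.fiberMod p S' M) := by
  obtain ⟨ψ, g, hψ, hg, hc⟩ := fiber_assoc_surjective hS M p
  haveI := isPrime_fiberIdeal p P
  let Q₀ := (FlatCA.fiberIdeal p P).map ψ
  have hle := ker_le_of_mem_associatedPrimes ψ g hg.1 h
  haveI : Q₀.IsPrime := Ideal.map_isPrime_of_surjective hψ hle
  have hcm : Q₀.comap ψ = FlatCA.fiberIdeal p P := by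
    rw [Ideal.comap_map_of_surjective' ψ hψ, sup_eq_left.2 hle]
  refine ⟨Q₀.comap (algebraMap S' (p.Fiber S')), inferInstance, liesOver_of_fiber p Q₀, ?_, ?_⟩
  · rw [Ideal.comap_comap, ← hc, ← Ideal.comap_comap, hcm]
    exact comap_fiberIdeal_of_liesOver p P
  · rw [comap_fiberIdeal_of_prime, ← mem_associatedPrimes_comap_iff ψ g hψ hg, hcm]
    exact h

end Surj

section BaseChange

variable {A B A' B' : Type u} [CommRing A] [CommRing B] [CommRing A'] [CommRing B'] [Algebra A B] [Algebra A A']
  [Algebra B B'] [Algebra A' B'] [Algebra A B'] [IsScalarTower A B B'] [IsScalarTower A A' B']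
  [Algebra.IsPushout A B A' B'] {N N' : Type u} [AddCommGroup N] [Module B N] [Module A N] [IsScalarTower A B N]
  [AddCommGroup N'] [Module B' N'] [Module B N'] [IsScalarTower B B' N'] [Module A' N'] [IsScalarTower A' B' N']
  [Module A N'] [IsScalarTower A A' N'] [IsScalarTower A B N']

theorem isBaseChange_iff_restrict (f : N →ₗ[B] N') :
    IsBaseChange B' f ↔ IsBaseChange A' (f.restrictScalars A) := by
  haveI : Algebra.IsPushout A A' B B' := Algebra.IsPushout.symm inferInstance
  let e := Algebra.IsPushout.cancelBaseChange A A' B B' N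
  constructor
  · intro hf
    refine IsBaseChange.of_equiv (e.symm ≪≫ₗ hf.equiv.restrictScalars A') fun x => ?_
    show hf.equiv (e.symm ((1 : A') ⊗ₜ x)) = f x
    rw [Algebra.IsPushout.cancelBaseChange_symm_tmul, map_one, hf.equiv_tmul, one_smul]
  · intro hf
    let l : B' ⊗[B] N →ₗ[B'] N' := f.liftBaseChange B'
    have hl : ∀ y, l (e.symm y) = hf.equiv y := fun y => by
      induction y using TensorProduct.induction_on with
      | zero => simp
      | tmul c m =>
        rw [Algebra.IsPushout.cancelBaseChange_symm_tmul, hf.equiv_tmul, LinearMap.liftBaseChange_tmul,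
          IsScalarTower.algebraMap_smul]
        rfl
      | add x y hx hy => simp only [map_add, hx, hy]
    have hb : Function.Bijective l := by
      have : (l : B' ⊗[B] N → N') = fun z => hf.equiv (e z) := funext fun z => by rw [← hl, e.symm_apply_apply]
      rw [this]
      exact hf.equiv.bijective.comp e.bijective
    exact IsBaseChange.of_equiv (LinearEquiv.ofBijective l hb) fun x => by
      show l ((1 : B') ⊗ₜ x) = f x
      rw [LinearMap.liftBaseChange_tmul, one_smul]

end BaseChange

section Impurity

variable {A B C : Type u} [CommRing A] [CommRing B] [CommRing C] [Algebra A B] [Algebra B C] [Algebra A C]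
  [IsScalarTower A B C] (hBC : Function.Surjective (algebraMap B C)) (N : Type u) [AddCommGroup N] [Module C N]
  [Module B N] [IsScalarTower B C N] (p : Ideal A) [p.IsPrime] {A' : Type u} [CommRing A'] [Algebra A A']
  {t' t : Ideal A'} [t'.IsPrime] [t.IsPrime]

include hBC in
theorem impurity_of_impurity_quotient {C' N' : Type u} [CommRing C'] [Algebra C C'] [Algebra A' C'] [Algebra A C']
    [IsScalarTower A C C'] [IsScalarTower A A' C'] [AddCommGroup N'] [Module C' N'] [Module C N']
    [IsScalarTower C C' N'] [Module A' N'] [IsScalarTower A' C' N'] (f : N →ₗ[C] N') (P : Ideal C') [P.IsPrime]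
    (h : FlatCA.IsImpurity A C N p A' C' N' f t' t P) :
    ∃ (B' : Type u) (_ : CommRing B') (_ : Algebra B B') (_ : Algebra A' B') (_ : Algebra A B')
      (_ : IsScalarTower A B B') (_ : IsScalarTower A A' B') (_ : Module B' N') (_ : Module B N')
      (_ : IsScalarTower B B' N') (_ : IsScalarTower A' B' N') (g : N →ₗ[B] N') (Q : Ideal B') (_ : Q.IsPrime),
      FlatCA.IsImpurity A B N p A' B' N' g t' t Q := by
  obtain ⟨hpush, hf, hle, htp, hPt, hP, hno⟩ := h
  haveI := hpush
  haveI := hPt
  let B' := A' ⊗[A] B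
  letI : Algebra A B' := inferInstance
  haveI : Algebra.IsPushout A B A' B' := TensorProduct.isPushout'
  letI : Algebra B C' := ((algebraMap C C').comp (algebraMap B C)).toAlgebra
  haveI : IsScalarTower B C C' := .of_algebraMap_eq fun _ => rfl
  haveI : IsScalarTower A B C' := .of_algebraMap_eq fun a => by
    rw [IsScalarTower.algebraMap_apply B C C', ← IsScalarTower.algebraMap_apply A B C,
      ← IsScalarTower.algebraMap_apply A C C']
  let φ : B' →ₐ[A'] C' := Algebra.TensorProduct.lift (Algebra.ofId A' C') (IsScalarTower.toAlgHom A B C')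
    (fun _ _ => .all _ _)
  letI : Algebra B' C' := φ.toRingHom.toAlgebra
  haveI : IsScalarTower A' B' C' := .of_algebraMap_eq fun a => (φ.commutes a).symm
  haveI : IsScalarTower A B' C' := .of_algebraMap_eq fun a => by
    rw [IsScalarTower.algebraMap_apply A A' B', ← IsScalarTower.algebraMap_apply A' B' C',
      ← IsScalarTower.algebraMap_apply A A' C']
  haveI : IsScalarTower B B' C' := .of_algebraMap_eq fun b => by
    show algebraMap B C' b = φ ((1 : A') ⊗ₜ[A] b)
    exact ((Algebra.TensorProduct.lift_tmul _ _ _ _ _).trans (by rw [map_one, one_mul]; rfl)).symm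
  have hsurj : Function.Surjective (algebraMap B' C') := by
    intro z
    obtain ⟨z, rfl⟩ := (Algebra.IsPushout.equiv A A' C C' (h := hpush.symm)).surjective z
    induction z using TensorProduct.induction_on with
    | zero => exact ⟨0, by simp⟩
    | tmul a c =>
      obtain ⟨b, rfl⟩ := hBC c
      refine ⟨a ⊗ₜ b, ?_⟩
      rw [Algebra.IsPushout.equiv_tmul]
      exact (Algebra.TensorProduct.lift_tmul _ _ _ _ _)
    | add x y hx hy => obtain ⟨a, ha⟩ := hx; obtain ⟨b, hb⟩ := hy; exact ⟨a + b, by rw [map_add, map_add, ha, hb]⟩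
  letI : Module B' N' := Module.compHom N' (algebraMap B' C')
  haveI : IsScalarTower B' C' N' := .of_algebraMap_smul fun _ _ => rfl
  letI : Module B N' := Module.compHom N' (algebraMap B C)
  haveI : IsScalarTower B C N' := .of_algebraMap_smul fun _ _ => rfl
  haveI : IsScalarTower B B' N' := .of_algebraMap_smul fun b n => by
    show algebraMap B' C' (algebraMap B B' b) • n = algebraMap B C b • n
    rw [← IsScalarTower.algebraMap_apply, IsScalarTower.algebraMap_apply B C C', IsScalarTower.algebraMap_smul]
  haveI : IsScalarTower A' B' N' := .of_algebraMap_smul fun a n => by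
    show algebraMap B' C' (algebraMap A' B' a) • n = a • n
    rw [← IsScalarTower.algebraMap_apply, IsScalarTower.algebraMap_smul]
  letI : Module A N := Module.compHom N (algebraMap A C)
  haveI : IsScalarTower A C N := .of_algebraMap_smul fun _ _ => rfl
  haveI : IsScalarTower A B N := .of_algebraMap_smul fun a n => by
    show algebraMap A B a • n = algebraMap A C a • n
    rw [IsScalarTower.algebraMap_apply A B C, IsScalarTower.algebraMap_smul C (algebraMap A B a) n]
  letI : Module A N' := Module.compHom N' (algebraMap A C)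
  haveI : IsScalarTower A C N' := .of_algebraMap_smul fun _ _ => rfl
  haveI : IsScalarTower A A' N' := .of_algebraMap_smul fun a n => by
    show algebraMap A A' a • n = algebraMap A C a • n
    rw [← IsScalarTower.algebraMap_smul C' (algebraMap A C a) n, ← IsScalarTower.algebraMap_smul C' (algebraMap A A' a) n,
      ← IsScalarTower.algebraMap_apply A C C', ← IsScalarTower.algebraMap_apply A A' C']
  haveI : IsScalarTower A B N' := .of_algebraMap_smul fun a n => by
    show algebraMap B C (algebraMap A B a) • n = algebraMap A C a • n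
    rw [← IsScalarTower.algebraMap_apply]
  have hg : IsBaseChange B' (f.restrictScalars B) :=
    (isBaseChange_iff_restrict (A := A) (A' := A') (f.restrictScalars B)).2 ((isBaseChange_iff_restrict (A := A) (A' := A') f).1 hf)
  refine ⟨B', inferInstance, inferInstance, inferInstance, inferInstance, inferInstance, inferInstance,
    inferInstance, inferInstance, inferInstance, inferInstance, f.restrictScalars B, P.comap (algebraMap B' C'),
    inferInstance, inferInstance, hg, hle, htp, ?_, ?_, fun Q' _ hQQ' hQ' => ?_⟩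
  · refine ⟨?_⟩
    rw [Ideal.under, Ideal.comap_comap, ← IsScalarTower.algebraMap_eq]
    exact hPt.over
  · exact (fiberIdeal_comap_mem_iff hsurj N' t' P).2 hP
  · have hker : RingHom.ker (algebraMap B' C') ≤ Q' := (Ideal.ker_le_comap _).trans hQQ'
    haveI : (Q'.map (algebraMap B' C')).IsPrime := Ideal.map_isPrime_of_surjective hsurj hker
    refine hno (Q'.map (algebraMap B' C')) ?_ ⟨?_⟩
    · calc P = (P.comap (algebraMap B' C')).map (algebraMap B' C') := (Ideal.map_comap_of_surjective _ hsurj P).symm
        _ ≤ _ := Ideal.map_mono hQQ'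
    · rw [Ideal.under, IsScalarTower.algebraMap_eq A' B' C', ← Ideal.comap_comap,
        Ideal.comap_map_of_surjective' _ hsurj, sup_eq_left.2 hker]
      exact hQ'.over

include hBC in
theorem impurity_quotient_of_impurity {B' N' : Type u} [CommRing B'] [Algebra B B'] [Algebra A' B'] [Algebra A B']
    [IsScalarTower A B B'] [IsScalarTower A A' B'] [AddCommGroup N'] [Module B' N'] [Module B N']
    [IsScalarTower B B' N'] [Module A' N'] [IsScalarTower A' B' N'] (f : N →ₗ[B] N') (P : Ideal B') [P.IsPrime]
    (h : FlatCA.IsImpurity A B N p A' B' N' f t' t P) :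
    ∃ (C' NC : Type u) (_ : CommRing C') (_ : Algebra C C') (_ : Algebra A' C') (_ : Algebra A C')
      (_ : IsScalarTower A C C') (_ : IsScalarTower A A' C') (_ : AddCommGroup NC) (_ : Module C' NC)
      (_ : Module C NC) (_ : IsScalarTower C C' NC) (_ : Module A' NC) (_ : IsScalarTower A' C' NC)
      (g : N →ₗ[C] NC) (Q : Ideal C') (_ : Q.IsPrime),
      FlatCA.IsImpurity A C N p A' C' NC g t' t Q := by
  obtain ⟨hpush, hf, hle, htp, hPt, hP, hno⟩ := h
  haveI := hpush
  haveI := hPt
  let C' := A' ⊗[A] C
  letI : Algebra A C' := inferInstance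
  haveI : Algebra.IsPushout A C A' C' := TensorProduct.isPushout'
  letI : Algebra B C' := ((algebraMap C C').comp (algebraMap B C)).toAlgebra
  haveI : IsScalarTower B C C' := .of_algebraMap_eq fun _ => rfl
  haveI : IsScalarTower A B C' := .of_algebraMap_eq fun a => by
    rw [IsScalarTower.algebraMap_apply B C C', ← IsScalarTower.algebraMap_apply A B C,
      ← IsScalarTower.algebraMap_apply A C C']
  let φ₀ : A' →ₐ[A] C' := IsScalarTower.toAlgHom A A' C'
  let φ₁ : B →ₐ[A] C' := IsScalarTower.toAlgHom A B C'
  let φ : B' →ₐ[A] C' := Algebra.pushoutDesc B' φ₁ φ₀ (fun _ _ => mul_comm _ _)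
  letI : Algebra B' C' := φ.toRingHom.toAlgebra
  haveI : IsScalarTower B B' C' := .of_algebraMap_eq fun b =>
    (Algebra.pushoutDesc_left B' φ₁ φ₀ (fun _ _ => mul_comm _ _) b).symm
  haveI : IsScalarTower A' B' C' := .of_algebraMap_eq fun a =>
    (Algebra.pushoutDesc_right B' φ₁ φ₀ (fun _ _ => mul_comm _ _) a).symm
  haveI : IsScalarTower A B' C' := .of_algebraMap_eq fun a => (φ.commutes a).symm
  have hsurj : Function.Surjective (algebraMap B' C') := by
    intro z
    induction z using TensorProduct.induction_on with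
    | zero => exact ⟨0, map_zero _⟩
    | tmul a c =>
      obtain ⟨b, rfl⟩ := hBC c
      refine ⟨algebraMap A' B' a * algebraMap B B' b, ?_⟩
      rw [map_mul, ← IsScalarTower.algebraMap_apply, ← IsScalarTower.algebraMap_apply]
      show (a ⊗ₜ[A] (1 : C)) * ((1 : A') ⊗ₜ[A] algebraMap B C b) = _
      rw [Algebra.TensorProduct.tmul_mul_tmul, mul_one, one_mul]
    | add x y hx hy => obtain ⟨a, ha⟩ := hx; obtain ⟨b, hb⟩ := hy; exact ⟨a + b, by rw [map_add, ha, hb]⟩
  let NC := C' ⊗[C] N
  letI : Module A' NC := inferInstance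
  haveI : IsScalarTower B' C' NC := inferInstance
  haveI : IsScalarTower B C' NC := inferInstance
  haveI : IsScalarTower B C NC := .of_algebraMap_smul fun b n => by
    rw [← IsScalarTower.algebraMap_smul C' (algebraMap B C b) n, ← IsScalarTower.algebraMap_apply,
      IsScalarTower.algebraMap_smul]
  haveI : IsScalarTower B B' NC := .of_algebraMap_smul fun b n => by
    rw [← IsScalarTower.algebraMap_smul C' (algebraMap B B' b) n, ← IsScalarTower.algebraMap_apply,
      IsScalarTower.algebraMap_smul]
  haveI : IsScalarTower A' B' NC := .of_algebraMap_smul fun a n => by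
    rw [← IsScalarTower.algebraMap_smul C' (algebraMap A' B' a) n, ← IsScalarTower.algebraMap_apply,
      IsScalarTower.algebraMap_smul]
  letI : Module A N := Module.compHom N (algebraMap A C)
  haveI : IsScalarTower A C N := .of_algebraMap_smul fun _ _ => rfl
  haveI : IsScalarTower A B N := .of_algebraMap_smul fun a n => by
    show algebraMap A B a • n = algebraMap A C a • n
    rw [IsScalarTower.algebraMap_apply A B C, IsScalarTower.algebraMap_smul C (algebraMap A B a) n]
  letI : Module A N' := Module.compHom N' (algebraMap A B)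
  haveI : IsScalarTower A B N' := .of_algebraMap_smul fun _ _ => rfl
  haveI : IsScalarTower A A' N' := .of_algebraMap_smul fun a n => by
    show algebraMap A A' a • n = algebraMap A B a • n
    rw [← IsScalarTower.algebraMap_smul B' (algebraMap A B a) n, ← IsScalarTower.algebraMap_smul B' (algebraMap A A' a) n,
      ← IsScalarTower.algebraMap_apply A B B', ← IsScalarTower.algebraMap_apply A A' B']
  let g : N →ₗ[C] NC := TensorProduct.mk C C' N 1
  have hgC : IsBaseChange C' g := TensorProduct.isBaseChange C N C'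
  let gB : N →ₗ[B] NC := g.restrictScalars B
  let l : N' →ₗ[B'] NC := hf.lift gB
  have hl : Function.Bijective l := by
    have h1 := (isBaseChange_iff_restrict (A := A) (A' := A') f).1 hf
    have h2 := (isBaseChange_iff_restrict (A := A) (A' := A') g).1 hgC
    have h3 : (l.restrictScalars A') = (h1.equiv.symm ≪≫ₗ h2.equiv).toLinearMap := by
      refine h1.algHom_ext _ _ fun x => ?_
      show l (f x) = h2.equiv (h1.equiv.symm ((f.restrictScalars A) x))
      rw [h1.equiv_symm_apply, h2.equiv_tmul, one_smul, hf.lift_eq]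
      rfl
    have h4 : (l : N' → NC) = (h1.equiv.symm ≪≫ₗ h2.equiv) := congrArg DFunLike.coe h3
    rw [h4]
    exact (h1.equiv.symm ≪≫ₗ h2.equiv).bijective
  let eG : FlatCA.fiberMod t' B' N' ≃ₗ[t'.Fiber B'] FlatCA.fiberMod t' B' NC :=
    TensorProduct.AlgebraTensorModule.congr (LinearEquiv.refl _ _) (LinearEquiv.ofBijective l hl)
  rw [LinearEquiv.AssociatedPrimes.eq eG] at hP
  obtain ⟨Q, hQ, hQt, hQP, hQass⟩ := exists_comap_of_fiberIdeal_mem hsurj NC t' P hP
  refine ⟨C', NC, inferInstance, inferInstance, inferInstance, inferInstance, inferInstance, inferInstance,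
    inferInstance, inferInstance, inferInstance, inferInstance, inferInstance, inferInstance, g, Q, hQ,
    inferInstance, hgC, hle, htp, hQt, hQass, fun Q' _ hQQ' hQ' => ?_⟩
  refine hno (Q'.comap (algebraMap B' C')) (hQP.symm.le.trans (Ideal.comap_mono hQQ')) ⟨?_⟩
  rw [Ideal.under, Ideal.comap_comap, ← IsScalarTower.algebraMap_eq]
  exact hQ'.over

end Impurity

end Groth.Agent.FlatMor3
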