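import Mathlib
import Groth.Prelude.Def_Flatn

/-!
Weil restriction of an arbitrary algebra along a finite projective algebra (the construction of
`Groth.Agent.WeilRes28.Alg` without the finite type hypothesis), and representability of `Mor_S(Z, X)`
for affine `Z`, `X`, `S`.
-/

universe u

open TensorProduct CategoryTheory CategoryTheory.Limits AlgebraicGeometry

namespace Groth.Agent.FlatMor3.WeilRep

section alg

variable {B B' : Type u} [CommRing B] [CommRing B'] [Algebra B B']

theorem map_id_map_id' {C₀ C₁ C₂ : Type*} [CommRing C₀] [CommRing C₁] [CommRing C₂] [Algebra B C₀]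
    [Algebra B C₁] [Algebra B C₂] (f : C₀ →ₐ[B] C₁) (g : C₁ →ₐ[B] C₂) (x : B' ⊗[B] C₀) :
    Algebra.TensorProduct.map (AlgHom.id B B') g (Algebra.TensorProduct.map (AlgHom.id B B') f x) =
      Algebra.TensorProduct.map (AlgHom.id B B') (g.comp f) x := by
  induction x using TensorProduct.induction_on with
  | zero => simp
  | tmul a b => simp
  | add x y hx hy => simp [hx, hy]

theorem exists_weilAlg [Module.Finite B B'] [Module.Projective B B'] (P : Type u) [CommRing P]
    [Algebra B P] :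
    ∃ (A : Type u) (_ : CommRing A) (_ : Algebra B A) (univ : P →ₐ[B] B' ⊗[B] A),
      ∀ (C : Type u) [CommRing C] [Algebra B C], Function.Bijective fun h : A →ₐ[B] C =>
        (Algebra.TensorProduct.map (AlgHom.id B B') h).comp univ := by
  classical
  let π : MvPolynomial P B →ₐ[B] P := MvPolynomial.aeval fun p => p
  have hπ : Function.Surjective π := fun p => ⟨MvPolynomial.X p, MvPolynomial.aeval_X _ p⟩
  obtain ⟨m, f, g, hf, -, hfg⟩ := Module.Finite.exists_comp_eq_id_of_projective B B'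
  let b : Fin m → B' := fun j => f (Pi.single j 1)
  let φ : Fin m → (B' →ₗ[B] B) := fun j => (LinearMap.proj j).comp g
  have hdec : ∀ x : B', ∑ j, φ j x • b j = x := fun x => by
    have h1 : f (g x) = x := congrArg (fun k : B' →ₗ[B] B' => k x) hfg
    conv_rhs => rw [← h1, pi_eq_sum_univ' (g x), map_sum]
    refine Finset.sum_congr rfl fun j _ => ?_
    rw [map_smul]
    rfl
  let co : ∀ (C : Type u) [CommRing C] [Algebra B C], Fin m → (B' ⊗[B] C →ₗ[B] C) := fun C _ _ j =>
    (TensorProduct.lid B C).toLinearMap.comp (LinearMap.rTensor C (φ j))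
  have hco : ∀ (C : Type u) [CommRing C] [Algebra B C] (j : Fin m) (x : B') (c : C),
      co C j (x ⊗ₜ c) = φ j x • c := fun C _ _ j x c => by simp [co]
  have hcodec : ∀ (C : Type u) [CommRing C] [Algebra B C] (d : B' ⊗[B] C),
      ∑ j, b j ⊗ₜ[B] co C j d = d := fun C _ _ d => by
    induction d using TensorProduct.induction_on with
    | zero => simp
    | tmul x c =>
      simp only [hco, ← TensorProduct.smul_tmul]
      rw [← TensorProduct.sum_tmul, hdec]
    | add x y hx hy => simp [TensorProduct.tmul_add, Finset.sum_add_distrib, hx, hy]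
  have hconat : ∀ (C C₁ : Type u) [CommRing C] [Algebra B C] [CommRing C₁] [Algebra B C₁] (h : C →ₐ[B] C₁)
      (j : Fin m) (d : B' ⊗[B] C),
      co C₁ j (Algebra.TensorProduct.map (AlgHom.id B B') h d) = h (co C j d) := fun C C₁ _ _ _ _ h j d => by
    induction d using TensorProduct.induction_on with
    | zero => simp
    | tmul x c => simp [hco]
    | add x y hx hy => simp [hx, hy]
  let univ₀ : MvPolynomial P B →ₐ[B] B' ⊗[B] (MvPolynomial (P × Fin m) B) :=
    MvPolynomial.aeval fun i => ∑ j, b j ⊗ₜ[B] MvPolynomial.X (i, j)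
  let rel : (P × Fin m) ⊕ (Fin m × RingHom.ker (π : MvPolynomial P B →+* P)) → (MvPolynomial (P × Fin m) B) :=
    Sum.elim (fun p => MvPolynomial.X p - ∑ l, φ p.2 (b l) • MvPolynomial.X (p.1, l))
      (fun q => co (MvPolynomial (P × Fin m) B) q.1 (univ₀ q.2.1))
  let 𝔞 : Ideal (MvPolynomial (P × Fin m) B) := Ideal.span (Set.range rel)
  let q : (MvPolynomial (P × Fin m) B) →ₐ[B] (MvPolynomial (P × Fin m) B) ⧸ 𝔞 := Ideal.Quotient.mkₐ B 𝔞
  have hrel : ∀ r, q (rel r) = 0 := fun r =>
    Ideal.Quotient.eq_zero_iff_mem.2 (Ideal.subset_span ⟨r, rfl⟩)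
  let θ : MvPolynomial P B →ₐ[B] B' ⊗[B] ((MvPolynomial (P × Fin m) B) ⧸ 𝔞) :=
    (Algebra.TensorProduct.map (AlgHom.id B B') q).comp univ₀
  have hθ : ∀ a ∈ RingHom.ker π, θ a = 0 := fun a ha => by
    rw [← hcodec _ (θ a)]
    refine Finset.sum_eq_zero fun j _ => ?_
    rw [show θ a = Algebra.TensorProduct.map (AlgHom.id B B') q (univ₀ a) from rfl, hconat,
      show q (co (MvPolynomial (P × Fin m) B) j (univ₀ a)) = 0 from hrel (Sum.inr (j, ⟨a, ha⟩)), TensorProduct.tmul_zero]
  let univ : P →ₐ[B] B' ⊗[B] ((MvPolynomial (P × Fin m) B) ⧸ 𝔞) :=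
    (Ideal.Quotient.liftₐ _ θ hθ).comp (Ideal.quotientKerAlgEquivOfSurjective hπ).symm.toAlgHom
  have huniv : ∀ a, univ (π a) = θ a := fun a => by
    have : (Ideal.quotientKerAlgEquivOfSurjective hπ).symm (π a) = Ideal.Quotient.mk _ a := by
      rw [AlgEquiv.symm_apply_eq]
      rfl
    show Ideal.Quotient.liftₐ _ θ hθ ((Ideal.quotientKerAlgEquivOfSurjective hπ).symm (π a)) = θ a
    rw [this]
    rfl
  refine ⟨(MvPolynomial (P × Fin m) B) ⧸ 𝔞, inferInstance, inferInstance, univ, fun C _ _ => ⟨?_, fun g₀ => ?_⟩⟩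
  · intro h₁ h₂ h
    refine Ideal.Quotient.algHom_ext B (MvPolynomial.algHom_ext fun p => ?_)
    obtain ⟨i, j⟩ := p
    have key : ∀ k : ((MvPolynomial (P × Fin m) B) ⧸ 𝔞) →ₐ[B] C,
        co C j ((Algebra.TensorProduct.map (AlgHom.id B B') k).comp univ (π (MvPolynomial.X i))) =
          k (q (MvPolynomial.X (i, j))) := by
      intro k
      show co C j (Algebra.TensorProduct.map (AlgHom.id B B') k (univ (π (MvPolynomial.X i)))) = _
      rw [huniv, hconat]
      congr 1
      rw [show θ (MvPolynomial.X i) = Algebra.TensorProduct.map (AlgHom.id B B') q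
        (univ₀ (MvPolynomial.X i)) from rfl, hconat]
      have h0 := hrel (Sum.inl (i, j))
      simp only [rel, Sum.elim_inl, map_sub, sub_eq_zero] at h0
      rw [h0]
      simp [univ₀, hco]
    show h₁ (q _) = h₂ (q _)
    rw [← key h₁, ← key h₂]
    exact congrArg (fun k : P →ₐ[B] B' ⊗[B] C => co C j (k (π (MvPolynomial.X i)))) h
  · let h₀ : (MvPolynomial (P × Fin m) B) →ₐ[B] C := MvPolynomial.aeval fun p => co C p.2 (g₀ (π (MvPolynomial.X p.1)))
    have h₀u : (Algebra.TensorProduct.map (AlgHom.id B B') h₀).comp univ₀ = g₀.comp π := by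
      refine MvPolynomial.algHom_ext fun i => ?_
      conv_rhs => rw [AlgHom.comp_apply, ← hcodec _ (g₀ (π (MvPolynomial.X i)))]
      simp [univ₀, h₀]
    have hkill : ∀ x ∈ 𝔞, h₀ x = 0 := by
      show 𝔞 ≤ RingHom.ker h₀
      rw [Ideal.span_le]
      rintro _ ⟨r, rfl⟩
      show h₀ (rel r) = 0
      rcases r with ⟨i, j⟩ | ⟨j, a, ha⟩
      · have e := congrArg (co C j) (hcodec C (g₀ (π (MvPolynomial.X i))))
        simp only [map_sum, hco] at e
        simp [rel, h₀, e]
      · show h₀ (co (MvPolynomial (P × Fin m) B) j (univ₀ a)) = 0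
        rw [← hconat, show Algebra.TensorProduct.map (AlgHom.id B B') h₀ (univ₀ a) = g₀ (π a) from
          congrArg (fun k : MvPolynomial P B →ₐ[B] B' ⊗[B] C => k a) h₀u,
          show π a = 0 from ha, map_zero, map_zero]
    refine ⟨Ideal.Quotient.liftₐ _ h₀ hkill, ?_⟩
    refine AlgHom.ext fun p => ?_
    obtain ⟨a, rfl⟩ := hπ p
    show Algebra.TensorProduct.map (AlgHom.id B B') _ (univ (π a)) = g₀ (π a)
    rw [huniv, show θ a = Algebra.TensorProduct.map (AlgHom.id B B') q (univ₀ a) from rfl, map_id_map_id',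
      show (Ideal.Quotient.liftₐ 𝔞 h₀ hkill).comp q = h₀ from Ideal.Quotient.liftₐ_comp _ _ _]
    exact congrArg (fun k : MvPolynomial P B →ₐ[B] B' ⊗[B] C => k a) h₀u


end alg

/-- The same universal property, for an arbitrary pushout square. -/
theorem exists_weil {B B' P : CommRingCat.{u}} (φ : B ⟶ B') (hφf : φ.hom.Finite)
    (hφp : letI := φ.hom.toAlgebra; Module.Projective B B') (ψ : B ⟶ P) :
    ∃ (A D₀ : CommRingCat.{u}) (a : B ⟶ A) (l₀ : A ⟶ D₀) (r₀ : B' ⟶ D₀) (h₀ : IsPushout a φ l₀ r₀)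
      (u₀ : P ⟶ D₀) (_ : ψ ≫ u₀ = a ≫ l₀),
      ∀ (C D : CommRingCat.{u}) (c : B ⟶ C) (l : C ⟶ D) (r : B' ⟶ D) (h : IsPushout c φ l r)
        (x : P ⟶ D), ψ ≫ x = c ≫ l →
          ∃! v : A ⟶ C, ∃ hv : a ≫ v = c,
            u₀ ≫ h₀.desc (v ≫ l) r (by rw [← Category.assoc, hv, h.w]) = x := by
  letI := φ.hom.toAlgebra
  letI := ψ.hom.toAlgebra
  haveI : Module.Finite B B' := hφf
  haveI : Module.Projective B B' := hφp
  obtain ⟨A, _, _, univ, hu⟩ := exists_weilAlg (B := B) (B' := B') P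
  have hP := (CommRingCat.isPushout_tensorProduct B B' A).flip
  refine ⟨CommRingCat.of A, CommRingCat.of (B' ⊗[B] A), CommRingCat.ofHom (algebraMap B A), _, _, hP,
    CommRingCat.ofHom univ.toRingHom, ?_, fun C D c l r h x hx => ?_⟩
  · ext b
    show univ (algebraMap B P b) = (1 : B') ⊗ₜ[B] algebraMap B A b
    exact (AlgHom.commutes univ b).trans ((Algebra.TensorProduct.includeRight (R := B) (A := B') (B := A)).commutes b).symm
  letI := c.hom.toAlgebra
  have hC := (CommRingCat.isPushout_tensorProduct B B' C).flip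
  let d : CommRingCat.of (B' ⊗[B] C) ⟶ D := hC.desc l r h.w
  let e : D ⟶ CommRingCat.of (B' ⊗[B] C) := h.desc _ _ hC.w
  have ede : e ≫ d = 𝟙 D := by
    apply h.hom_ext
    · rw [h.inl_desc_assoc, hC.inl_desc, Category.comp_id]
    · rw [h.inr_desc_assoc, hC.inr_desc, Category.comp_id]
  have dde : d ≫ e = 𝟙 _ := by
    apply hC.hom_ext
    · rw [hC.inl_desc_assoc, h.inl_desc, Category.comp_id]
    · rw [hC.inr_desc_assoc, h.inr_desc, Category.comp_id]
  have key : ∀ (v : A →ₐ[B] C) (w : CommRingCat.of A ⟶ C) (hw : CommRingCat.ofHom v.toRingHom = w)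
      (hh : CommRingCat.ofHom (algebraMap B A) ≫ (w ≫ l) = φ ≫ r),
      hP.desc (w ≫ l) r hh =
        CommRingCat.ofHom (Algebra.TensorProduct.map (AlgHom.id B B') v).toRingHom ≫ d := by
    rintro v w rfl hh
    apply hP.hom_ext
    · rw [hP.inl_desc]
      conv_lhs => rw [← hC.inl_desc l r h.w]
      rw [← Category.assoc, ← Category.assoc]
      refine congrArg (· ≫ d) (CommRingCat.hom_ext (RingHom.ext fun a => ?_))
      show (1 : B') ⊗ₜ[B] v a = Algebra.TensorProduct.map (AlgHom.id B B') v ((1 : B') ⊗ₜ[B] a)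
      simp
    · rw [hP.inr_desc]
      conv_lhs => rw [← hC.inr_desc l r h.w]
      rw [← Category.assoc]
      refine congrArg (· ≫ d) (CommRingCat.hom_ext (RingHom.ext fun a => ?_))
      show a ⊗ₜ[B] (1 : C) = Algebra.TensorProduct.map (AlgHom.id B B') v (a ⊗ₜ[B] (1 : A))
      simp
  let x' : P →ₐ[B] B' ⊗[B] C :=
    { (x ≫ e).hom with
      commutes' := fun b => by
        show e (x (ψ b)) = _
        have h1 := congrArg (fun k : B ⟶ D => e (k b)) hx
        refine h1.trans ?_
        show e (l (c b)) = _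
        refine (congrArg (fun k : C ⟶ CommRingCat.of (B' ⊗[B] C) => k (c b)) (h.inl_desc _ _ hC.w)).trans ?_
        show (1 : B') ⊗ₜ[B] (algebraMap B C b) = algebraMap B (B' ⊗[B] C) b
        exact ((Algebra.TensorProduct.includeRight (R := B) (A := B') (B := C)).commutes b) }
  obtain ⟨v, hv⟩ := (hu C).2 x'
  refine ⟨CommRingCat.ofHom v.toRingHom, ⟨CommRingCat.hom_ext v.comp_algebraMap, ?_⟩, ?_⟩
  · rw [key v _ rfl, ← Category.assoc, show x = (x ≫ e) ≫ d by rw [Category.assoc, ede, Category.comp_id]]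
    refine congrArg (· ≫ d) (CommRingCat.hom_ext (RingHom.ext fun p => ?_))
    exact congrArg (fun k : P →ₐ[B] B' ⊗[B] C => k p) hv
  · rintro w ⟨hw, hw'⟩
    let w' : A →ₐ[B] C := { w.hom with commutes' := fun b => congrArg (fun k : B ⟶ C => k b) hw }
    rw [key w' w rfl] at hw'
    have : w' = v := (hu C).1 (by
      show (Algebra.TensorProduct.map (AlgHom.id B B') w').comp univ = (Algebra.TensorProduct.map (AlgHom.id B B') v).comp univ
      rw [show (Algebra.TensorProduct.map (AlgHom.id B B') v).comp univ = x' from hv]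
      refine AlgHom.ext fun p => ?_
      show _ = e (x p)
      rw [← hw']
      exact (congrArg (fun k : CommRingCat.of (B' ⊗[B] C) ⟶ CommRingCat.of (B' ⊗[B] C) =>
        k (Algebra.TensorProduct.map (AlgHom.id B B') w' (univ p))) dde).symm)
    rw [← this]
    rfl

theorem exists_hom_appTop {T Y : Scheme.{u}} [IsAffine Y] (φ : Γ(Y, ⊤) ⟶ Γ(T, ⊤)) :
    ∃ m : T ⟶ Y, m.appTop = φ := by
  refine ⟨T.toSpecΓ ≫ Spec.map φ ≫ Y.isoSpec.inv, ?_⟩
  have h1 : (T.toSpecΓ ≫ Spec.map φ ≫ Y.isoSpec.inv) ≫ Y.isoSpec.hom = T.toSpecΓ ≫ Spec.map φ := by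
    simp
  have h2 := congrArg Scheme.Hom.appTop h1
  simp only [Scheme.Hom.comp_appTop, Scheme.toSpecΓ_appTop, Scheme.isoSpec_hom, Scheme.ΓSpecIso_naturality] at h2
  simp only [Scheme.Hom.comp_appTop, Scheme.toSpecΓ_appTop]
  exact (cancel_epi _).1 h2

section

variable {S Z X : Scheme.{u}} (g : Z ⟶ S) (f : X ⟶ S)

/-- The action of `morS` on the underlying morphism of a section. -/
theorem morS_left {T T' : Over S} (v : T' ⟶ T) (b : (Flatn.morS g f).obj (Opposite.op T)) :
    ((Flatn.morS g f).map v.op b).left =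
      pullback.lift (pullback.fst T'.hom g ≫ v.left) (pullback.snd T'.hom g)
        (by rw [Category.assoc, Over.w, pullback.condition]) ≫ b.left := rfl

/-- A representing candidate which is bijective on affine schemes over the base represents `morS`. -/
theorem representableBy_of_affine (R : Over S) (b₀ : (Flatn.morS g f).obj (Opposite.op R))
    (h : ∀ T : Over S, IsAffine T.left →
      Function.Bijective fun v : T ⟶ R => (Flatn.morS g f).map v.op b₀) :
    Nonempty ((Flatn.morS g f).RepresentableBy R) := by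
  let η : ∀ T : Over S, (T ⟶ R) → (Flatn.morS g f).obj (Opposite.op T) := fun T v =>
    (Flatn.morS g f).map v.op b₀
  have hη : ∀ {T T' : Over S} (j : T' ⟶ T) (v : T ⟶ R),
      η T' (j ≫ v) = (Flatn.morS g f).map j.op (η T v) := fun j v => by
    simp [η, op_comp]
  have hinj : ∀ T : Over S, Function.Injective (η T) := by
    intro T a b hab
    refine Over.OverMorphism.ext (Scheme.Cover.hom_ext T.left.affineCover _ _ fun i => ?_)
    let Ti : Over S := Over.mk (T.left.affineCover.f i ≫ T.hom)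
    let j : Ti ⟶ T := Over.homMk (T.left.affineCover.f i) rfl
    haveI : IsAffine Ti.left := inferInstanceAs (IsAffine (T.left.affineCover.X i))
    have : j ≫ a = j ≫ b := (h Ti ‹_›).1 (show η Ti (j ≫ a) = η Ti (j ≫ b) by rw [hη, hη, hab])
    exact congrArg (fun k : Ti ⟶ R => k.left) this
  have hsurj : ∀ T : Over S, Function.Surjective (η T) := by
    intro T x
    let 𝒰 := T.left.affineCover
    let Ti : 𝒰.I₀ → Over S := fun i => Over.mk (𝒰.f i ≫ T.hom)
    let j : ∀ i, Ti i ⟶ T := fun i => Over.homMk (𝒰.f i) rfl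
    have haff : ∀ i, IsAffine (Ti i).left := fun i => inferInstanceAs (IsAffine (T.left.affineCover.X i))
    choose a ha using fun i => (h (Ti i) (haff i)).2 ((Flatn.morS g f).map (j i).op x)
    have hov : ∀ i i', pullback.fst (𝒰.f i) (𝒰.f i') ≫ (a i).left =
        pullback.snd (𝒰.f i) (𝒰.f i') ≫ (a i').left := by
      intro i i'
      let V : Over S := Over.mk (pullback.fst (𝒰.f i) (𝒰.f i') ≫ 𝒰.f i ≫ T.hom)
      let p₁ : V ⟶ Ti i := Over.homMk (pullback.fst (𝒰.f i) (𝒰.f i')) rfl
      let p₂ : V ⟶ Ti i' := Over.homMk (pullback.snd (𝒰.f i) (𝒰.f i')) (by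
        show _ ≫ 𝒰.f i' ≫ T.hom = _
        rw [← pullback.condition_assoc]
        rfl)
      have hp : p₁ ≫ j i = p₂ ≫ j i' := Over.OverMorphism.ext pullback.condition
      have : p₁ ≫ a i = p₂ ≫ a i' := hinj V (by
        rw [hη, hη, show η (Ti i) (a i) = _ from ha i, show η (Ti i') (a i') = _ from ha i',
          ← Functor.map_comp_apply, ← Functor.map_comp_apply, ← op_comp, ← op_comp, hp])
      exact congrArg (fun k : V ⟶ R => k.left) this
    let v : T ⟶ R := Over.homMk (𝒰.glueMorphisms (fun i => (a i).left) hov) (by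
      refine Scheme.Cover.hom_ext 𝒰 _ _ fun i => ?_
      rw [Scheme.Cover.ι_glueMorphisms_assoc]
      exact Over.w (a i))
    refine ⟨v, Over.OverMorphism.ext (Scheme.Cover.hom_ext
      (𝒰.pullback₁ (pullback.fst T.hom g)) _ _ fun i => ?_)⟩
    have hk : ∀ b : (Flatn.morS g f).obj (Opposite.op T),
        pullback.fst (pullback.fst T.hom g) (𝒰.f i) ≫ b.left =
          pullback.lift (pullback.snd (pullback.fst T.hom g) (𝒰.f i))
            (pullback.fst (pullback.fst T.hom g) (𝒰.f i) ≫ pullback.snd T.hom g)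
            (by
              show _ ≫ 𝒰.f i ≫ T.hom = _
              rw [← pullback.condition_assoc, pullback.condition (f := T.hom), Category.assoc]) ≫
            ((Flatn.morS g f).map (j i).op b).left := by
      intro b
      rw [morS_left, ← Category.assoc]
      congr 1
      refine pullback.hom_ext ?_ ?_
      · rw [Category.assoc, pullback.lift_fst]
        erw [pullback.lift_fst_assoc]
        exact pullback.condition
      · rw [Category.assoc, pullback.lift_snd]
        erw [pullback.lift_snd]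
    have e : (j i) ≫ v = a i := Over.OverMorphism.ext (Scheme.Cover.ι_glueMorphisms 𝒰 _ hov i)
    show pullback.fst (pullback.fst T.hom g) (𝒰.f i) ≫ (η T v).left =
      pullback.fst (pullback.fst T.hom g) (𝒰.f i) ≫ x.left
    rw [hk, hk, ← hη, e, show η (Ti i) (a i) = _ from ha i]
  refine ⟨{ homEquiv := fun {T} => Equiv.ofBijective (η T) ⟨hinj T, hsurj T⟩
            homEquiv_comp := fun {T T'} j v => hη j v }⟩

/-- `Mor_S(Z, X)` is representable by an affine scheme for `Z`, `X`, `S` affine with `Γ(Z)` finite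
projective over `Γ(S)`. -/
theorem exists_representableBy [IsAffine Z] [IsAffine X] [IsAffine S] (hf : g.appTop.hom.Finite)
    (hp : letI := g.appTop.hom.toAlgebra; Module.Projective Γ(S, ⊤) Γ(Z, ⊤)) :
    ∃ W : Over S, IsAffine W.left ∧ Nonempty ((Flatn.morS g f).RepresentableBy W) := by
  obtain ⟨A, D₀, a, l₀, r₀, h₀, u₀, hu₀, univ⟩ := exists_weil g.appTop hf hp f.appTop
  let R : Over S := Over.mk (Spec.map a ≫ S.isoSpec.inv)
  haveI : IsAffine R.left := inferInstanceAs (IsAffine (Spec A))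
  haveI : IsAffine ((Functor.fromPUnit S).obj R.right) := inferInstanceAs (IsAffine S)
  let γ : A ⟶ Γ(R.left, ⊤) := (Scheme.ΓSpecIso A).inv
  have hR : R.hom.appTop = a ≫ γ := by
    show (Spec.map a ≫ S.isoSpec.inv).appTop = _
    have h1 : (Spec.map a ≫ S.isoSpec.inv) ≫ S.isoSpec.hom = Spec.map a := by simp
    have h2 := congrArg Scheme.Hom.appTop h1
    simp only [Scheme.Hom.comp_appTop, Scheme.isoSpec_hom, Scheme.toSpecΓ_appTop] at h2
    rw [Scheme.Hom.comp_appTop, ← cancel_epi (Scheme.ΓSpecIso Γ(S, ⊤)).hom, h2]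
    show _ = (Scheme.ΓSpecIso Γ(S, ⊤)).hom ≫ a ≫ (Scheme.ΓSpecIso A).inv
    rw [← Scheme.ΓSpecIso_naturality_assoc, Iso.hom_inv_id, Category.comp_id]
  haveI : IsAffine (pullback R.hom g) := inferInstance
  have hsq : ∀ T : Over S,
      T.hom.appTop ≫ (pullback.fst T.hom g).appTop = g.appTop ≫ (pullback.snd T.hom g).appTop := fun T => by
    rw [← Scheme.Hom.comp_appTop, ← Scheme.Hom.comp_appTop, pullback.condition]
  have hw₀ : a ≫ γ ≫ (pullback.fst R.hom g).appTop = g.appTop ≫ (pullback.snd R.hom g).appTop := by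
    rw [← hsq R, hR, Category.assoc]
  obtain ⟨m, hm⟩ := exists_hom_appTop (T := pullback R.hom g) (Y := X) (u₀ ≫ h₀.desc _ _ hw₀)
  have hmw : m ≫ f = pullback.snd R.hom g ≫ g := by
    refine ext_of_isAffine ?_
    rw [Scheme.Hom.comp_appTop, Scheme.Hom.comp_appTop, hm, reassoc_of% hu₀, h₀.inl_desc, hw₀]
  let b₀ : (Flatn.morS g f).obj (Opposite.op R) := Over.homMk m hmw
  have hover : ∀ (T : Over S) (y : (Flatn.morS g f).obj (Opposite.op T)),
      f.appTop ≫ y.left.appTop = T.hom.appTop ≫ (pullback.fst T.hom g).appTop := fun T y => by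
    have e : y.left ≫ f = pullback.snd T.hom g ≫ g := Over.w y
    exact ((Scheme.Hom.comp_appTop _ _).symm.trans ((congrArg Scheme.Hom.appTop e).trans (Scheme.Hom.comp_appTop _ _))).trans (hsq T).symm
  refine ⟨R, ‹_›, representableBy_of_affine g f R b₀ fun T hT => ?_⟩
  haveI := hT
  have hval : ∀ (v : T ⟶ R), ((Flatn.morS g f).map v.op b₀).left.appTop =
      u₀ ≫ h₀.desc ((γ ≫ v.left.appTop) ≫ (pullback.fst T.hom g).appTop) (pullback.snd T.hom g).appTop
        (by
          rw [← hsq T, ← Over.w v, Scheme.Hom.comp_appTop, hR]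
          simp only [Category.assoc]) := by
    intro v
    rw [morS_left, Scheme.Hom.comp_appTop]
    show m.appTop ≫ _ = _
    rw [hm, Category.assoc]
    refine congrArg (u₀ ≫ ·) (h₀.hom_ext ?_ ?_)
    · rw [h₀.inl_desc_assoc, h₀.inl_desc]
      refine (Category.assoc _ _ _).trans (Eq.trans ?_ (Category.assoc _ _ _).symm)
      refine congrArg (γ ≫ ·) ((Scheme.Hom.comp_appTop _ _).symm.trans ?_)
      exact (congrArg Scheme.Hom.appTop (pullback.lift_fst _ _ _)).trans (Scheme.Hom.comp_appTop _ _)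
    · rw [h₀.inr_desc_assoc, h₀.inr_desc, ← Scheme.Hom.comp_appTop, pullback.lift_snd]
  have hc : ∀ (v : T ⟶ R), a ≫ γ ≫ v.left.appTop = T.hom.appTop := fun v => by
    rw [← reassoc_of% hR, ← Scheme.Hom.comp_appTop, Over.w]
  have hP : IsPushout T.hom.appTop g.appTop (pullback.fst T.hom g).appTop (pullback.snd T.hom g).appTop :=
    isPushout_appTop_of_isPullback (IsPullback.of_hasPullback T.hom g)
  refine ⟨fun v w hvw => ?_, fun y => ?_⟩
  · have hy := congrArg (fun k : Over.mk _ ⟶ Over.mk f => k.left.appTop) hvw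
    dsimp only at hy
    rw [hval, hval] at hy
    obtain ⟨c, -, hc'⟩ := univ _ _ T.hom.appTop _ _ hP ((Flatn.morS g f).map v.op b₀).left.appTop (hover T _)
    have h1 := hc' (γ ≫ v.left.appTop) ⟨hc v, (hval v).symm⟩
    have h2 := hc' (γ ≫ w.left.appTop) ⟨hc w, by rw [hval]; exact hy.symm⟩
    refine Over.OverMorphism.ext (ext_of_isAffine ?_)
    exact (cancel_epi γ).1 (h1.trans h2.symm)
  · obtain ⟨c, ⟨hc₁, hc₂⟩, -⟩ := univ _ _ T.hom.appTop _ _ hP y.left.appTop (hover T y)
    obtain ⟨n, hn⟩ := exists_hom_appTop (T := T.left) (Y := R.left) ((Scheme.ΓSpecIso A).hom ≫ c)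
    have hn' : γ ≫ n.appTop = c := by rw [hn]; simp [γ]
    refine ⟨Over.homMk n ?_, Over.OverMorphism.ext ((@ext_of_isAffine _ X ‹IsAffine X› _ _ ?_))⟩
    · refine ext_of_isAffine ?_
      rw [Scheme.Hom.comp_appTop, hR, Category.assoc, hn']
      exact hc₁
    · rw [hval]
      refine Eq.trans ?_ hc₂
      congr 1
      apply h₀.hom_ext
      · rw [h₀.inl_desc, h₀.inl_desc]
        show (γ ≫ n.appTop) ≫ _ = _
        rw [hn']
      · rw [h₀.inr_desc, h₀.inr_desc]

end

end Groth.Agent.FlatMor3.WeilRep
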