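import Groth.Agent.LocImmLib.FiniteFactor
import Groth.Agent.LimitsH94.Approx.Closed

/-!
# Zariski's main theorem with finite presentation

A separated, quasi-compact, locally quasi-finite morphism locally of finite presentation to a
qcqs scheme factors as a quasi-compact open immersion followed by a finite morphism of finite
presentation.
-/

set_option backward.isDefEq.respectTransparency false
set_option backward.isDefEq.respectTransparency.types false

universe u

open CategoryTheory CategoryTheory.Limits AlgebraicGeometry TopologicalSpace Opposite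

namespace Groth.Agent.FlatMor3

/-- A cofiltered limit along monomorphisms of schemes locally of finite type which is locally of
finite presentation is attained at some stage. -/
theorem exists_stage_isIso_of_lfp {I : Type u} [SmallCategory I] [IsCofiltered I]
    {S : Scheme.{u}} {E : I ⥤ Scheme.{u}} {c : Cone E} (hc : IsLimit c)
    (t : E ⟶ (Functor.const I).obj S) (f : c.pt ⟶ S) (hf : c.π ≫ t = (Functor.const I).map f)
    [LocallyOfFinitePresentation f] [∀ {i j} (a : i ⟶ j), IsAffineHom (E.map a)]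
    [∀ {i j} (a : i ⟶ j), Mono (E.map a)] [∀ i, CompactSpace (E.obj i)]
    [∀ i, QuasiSeparatedSpace (E.obj i)] [∀ i, LocallyOfFiniteType (t.app i)] :
    ∃ i, IsIso (c.π.app i) := by
  obtain ⟨i, g, hg, hgt⟩ := Scheme.exists_π_app_comp_eq_of_locallyOfFinitePresentation E t f c hc
    (𝟙 c.pt) (by rw [Category.id_comp]; exact hf)
  have hπ : c.π.app i ≫ t.app i = f := congr($hf |>.app i)
  obtain ⟨k, hk, he⟩ := Scheme.exists_hom_comp_eq_comp_of_locallyOfFiniteType E t (t.app i) c hc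
    (g ≫ c.π.app i) (𝟙 (E.obj i)) (by rw [Category.assoc, hπ, hgt]) (Category.id_comp _).symm
    (by rw [← Category.assoc, hg]; exact (Category.id_comp _).trans (Category.comp_id _).symm)
  refine ⟨k, E.map hk ≫ g, ?_, ?_⟩
  · rw [← Category.assoc, c.w, hg]; rfl
  · rw [← cancel_mono (E.map hk), Category.assoc, Category.assoc, c.w, Category.id_comp]
    simpa using he

theorem exists_finite_fp_factor {X S : Scheme.{u}} (f : X ⟶ S) [CompactSpace S]
    [QuasiSeparatedSpace S] [IsSeparated f] [QuasiCompact f] [LocallyQuasiFinite f]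
    [LocallyOfFinitePresentation f] :
    ∃ (T : Scheme.{u}) (j : X ⟶ T) (π : T ⟶ S), IsOpenImmersion j ∧ QuasiCompact j ∧
      IsFinite π ∧ LocallyOfFinitePresentation π ∧ j ≫ π = f := by
  obtain ⟨T, i, p, hi, hp, hip⟩ := LocImmLib.exists_finite_factor_qcqs f
  obtain ⟨J, _, _, _, D, π, hlim, hD, hπ, htr⟩ := LimitsH94.Approx.exists_finite_system p
  have : IsConnected Jᵒᵖ := IsCofiltered.isConnected _
  let D₀ : Jᵒᵖ ⥤ Scheme.{u} := D ⋙ Over.forget _
  let c₀ : Cone D₀ := (Over.forget _).mapCone (Cone.mk _ π)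
  have hc₀ : IsLimit c₀ := isLimitOfPreserves (Over.forget _) hlim
  have : ∀ {a b : Jᵒᵖ} (φ : a ⟶ b), IsClosedImmersion (D₀.map φ) := @fun a b φ => htr a b φ
  have : ∀ {a b : Jᵒᵖ} (φ : a ⟶ b), IsAffineHom (D₀.map φ) := @fun a b φ => inferInstance
  have hz : ∀ k, CompactSpace (D₀.obj k) ∧ QuasiSeparatedSpace (D₀.obj k) := fun k => by
    have := (hD k).1
    exact ⟨QuasiCompact.compactSpace_of_compactSpace (D.obj k).hom,
      quasiSeparatedSpace_of_quasiSeparated (D.obj k).hom⟩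
  have := fun k => (hz k).1
  have := fun k => (hz k).2
  have hXc : CompactSpace X := QuasiCompact.compactSpace_of_compactSpace f
  obtain ⟨k, V, hV, hpre⟩ := exists_preimage_eq D₀ c₀ hc₀ i.opensRange
    (by rw [Scheme.Hom.coe_opensRange]; exact isCompact_range i.continuous)
  have : ∀ {a b : Over k} (φ : a ⟶ b), Mono ((opensDiagram D₀ k V).map φ) := @fun a b φ => by
    have e : (opensDiagram D₀ k V).map φ ≫ (D₀.map b.hom ⁻¹ᵁ V).ι =
        (D₀.map a.hom ⁻¹ᵁ V).ι ≫ D₀.map φ.left := Scheme.Hom.resLE_comp_ι _ _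
    have : Mono ((opensDiagram D₀ k V).map φ ≫ (D₀.map b.hom ⁻¹ᵁ V).ι) := by
      rw [e]; infer_instance
    exact mono_of_mono _ (D₀.map b.hom ⁻¹ᵁ V).ι
  have : ∀ a : Over k, CompactSpace ((opensDiagram D₀ k V).obj a) := fun a =>
    isCompact_iff_compactSpace.mp ((D₀.map a.hom).isCompact_preimage hV)
  have : ∀ a : Over k, QuasiSeparatedSpace ((opensDiagram D₀ k V).obj a) := fun a =>
    quasiSeparatedSpace_of_quasiSeparated (D₀.map a.hom ⁻¹ᵁ V).ι
  let t : opensDiagram D₀ k V ⟶ (Functor.const (Over k)).obj S :=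
    { app := fun a => (D₀.map a.hom ⁻¹ᵁ V).ι ≫ (D.obj a.left).hom
      naturality := fun a b φ => by
        show (D₀.map φ.left).resLE _ _ _ ≫ (D₀.map b.hom ⁻¹ᵁ V).ι ≫ (D.obj b.left).hom =
          ((D₀.map a.hom ⁻¹ᵁ V).ι ≫ (D.obj a.left).hom) ≫ 𝟙 S
        rw [Scheme.Hom.resLE_comp_ι_assoc, Category.comp_id]
        exact congrArg _ (Over.w (D.map φ.left)) }
  have : ∀ a, LocallyOfFiniteType (t.app a) := fun a => by
    have := (hD a.left).2
    show LocallyOfFiniteType ((D₀.map a.hom ⁻¹ᵁ V).ι ≫ (D.obj a.left).hom)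
    infer_instance
  have hr : Set.range i = Set.range (c₀.π.app k ⁻¹ᵁ V).ι :=
    ((Scheme.Opens.range_ι _).trans (congrArg SetLike.coe hpre)).symm
  let e := IsOpenImmersion.isoOfRangeEq i (c₀.π.app k ⁻¹ᵁ V).ι hr
  have he : e.hom ≫ (c₀.π.app k ⁻¹ᵁ V).ι = i := IsOpenImmersion.isoOfRangeEq_hom_fac _ _ hr
  have hU : (c₀.π.app k ⁻¹ᵁ V).ι ≫ p = e.inv ≫ f := by
    rw [← hip, ← he, Category.assoc, Iso.inv_hom_id_assoc]
  have : LocallyOfFinitePresentation ((c₀.π.app k ⁻¹ᵁ V).ι ≫ p) := by rw [hU]; infer_instance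
  obtain ⟨a, ha⟩ := exists_stage_isIso_of_lfp (isLimitOpensCone D₀ c₀ hc₀ k V) t
    ((c₀.π.app k ⁻¹ᵁ V).ι ≫ p) (by
      ext a : 2
      show (c₀.π.app a.left).resLE _ _ _ ≫ (D₀.map a.hom ⁻¹ᵁ V).ι ≫ (D.obj a.left).hom = _
      rw [Scheme.Hom.resLE_comp_ι_assoc]
      exact congrArg _ (Over.w (π.app a.left)))
  have := (hD a.left).1
  have : IsOpenImmersion (e.hom ≫ (opensCone D₀ c₀ k V).π.app a ≫ (D₀.map a.hom ⁻¹ᵁ V).ι) := by
    haveI := ha; infer_instance
  have hfac : (e.hom ≫ (opensCone D₀ c₀ k V).π.app a ≫ (D₀.map a.hom ⁻¹ᵁ V).ι) ≫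
      (D.obj a.left).hom = f := by
    show (e.hom ≫ (c₀.π.app a.left).resLE _ _ _ ≫ (D₀.map a.hom ⁻¹ᵁ V).ι) ≫ (D.obj a.left).hom = f
    rw [Scheme.Hom.resLE_comp_ι, ← Category.assoc e.hom, he, Category.assoc]
    exact (congrArg (i ≫ ·) (Over.w (π.app a.left))).trans hip
  refine ⟨(D.obj a.left).left, _, (D.obj a.left).hom, this, ?_, (hD a.left).1, (hD a.left).2, hfac⟩
  have : QuasiCompact ((e.hom ≫ (opensCone D₀ c₀ k V).π.app a ≫ (D₀.map a.hom ⁻¹ᵁ V).ι) ≫
      (D.obj a.left).hom) := by rw [hfac]; infer_instance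
  exact QuasiCompact.of_comp _ (D.obj a.left).hom

end Groth.Agent.FlatMor3
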